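import Mathlib
import Cfsg.Agent.TwoFusion.TransferIndex
import Cfsg.Agent.Lib.Cores
import Cfsg.Agent.TwoFusion.IsolatedFusion
import Cfsg.Agent.Lib.Refl
import Cfsg.Agent.Prune
set_option linter.all false
prune_inst 0x7f00000000000000000000000000000000000000000000000000000000000000000000000000000000000000000000000000000000000000000000000000000000000000000000000000000000000000003fffffffffffffffffffffffffffbeffbdffffffff
open scoped Cfsg.Agent.FastGrp

-- part: H333/AltModel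
section
/-!
# The centralizer of a fixed-point-free involution in the alternating group of degree 12 (helper333)

`mk v σ : (i, b) ↦ (σ i, b + v (σ i))` on `Fin 6 × ZMod 2`.
-/

set_option autoImplicit false

namespace Cfsg.Agent.H333.AltModel

open Equiv

/-- points -/
abbrev Pt := Fin 6 × ZMod 2

/-- signed permutations -/
def mk (v : Fin 6 → ZMod 2) (σ : Perm (Fin 6)) : Perm Pt where
  toFun p := (σ p.1, p.2 + v (σ p.1))
  invFun p := (σ.symm p.1, p.2 - v p.1)
  left_inv p := by simp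
  right_inv p := by simp

theorem mk_apply (v : Fin 6 → ZMod 2) (σ : Perm (Fin 6)) (p : Pt) : mk v σ p = (σ p.1, p.2 + v (σ p.1)) := rfl

theorem mk_mul (v w : Fin 6 → ZMod 2) (σ τ : Perm (Fin 6)) :
    mk v σ * mk w τ = mk (v + w ∘ ⇑σ.symm) (σ * τ) := by
  ext1 p
  rw [Perm.mul_apply, mk_apply, mk_apply, mk_apply]
  simp only [Perm.mul_apply, Pi.add_apply, Function.comp_apply, symm_apply_apply]
  ext1
  · rfl
  · show p.2 + w (τ p.1) + v (σ (τ p.1)) = p.2 + (v (σ (τ p.1)) + w (τ p.1))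
    ring

theorem mk_inj {v w : Fin 6 → ZMod 2} {σ τ : Perm (Fin 6)} (h : mk v σ = mk w τ) : v = w ∧ σ = τ := by
  have h1 : σ = τ := by
    ext1 i
    have := congrArg (fun g : Perm Pt => (g (i, 0)).1) h
    exact this
  subst h1
  refine ⟨?_, rfl⟩
  ext1 i
  have := congrArg (fun g : Perm Pt => (g (σ.symm i, 0)).2) h
  simpa [mk_apply] using this

theorem mk_one : mk 0 1 = 1 := by
  ext1 p
  rw [mk_apply]
  simp

/-- the fixed-point-free involution -/
def a : Perm Pt := mk 1 1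

/-- elements commuting with `a` -/
theorem exists_mk {g : Perm Pt} (h : g * a = a * g) : ∃ v σ, g = mk v σ := by
  have h1 : ∀ i b, g (i, b + 1) = ((g (i, b)).1, (g (i, b)).2 + 1) := by
    intro i b
    have := congrArg (fun k : Perm Pt => k (i, b)) h
    simpa only [a, mk_apply, Perm.mul_apply, _root_.Equiv.Perm.coe_one, _root_.id_eq, _root_.Pi.one_apply] using this
  have hz : ∀ b : ZMod 2, b = 0 ∨ b = 1 := by decide
  have h2 : ∀ i b, g (i, b) = ((g (i, 0)).1, b + (g (i, 0)).2) := by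
    intro i b
    rcases hz b with rfl | rfl
    · simp
    · have := h1 i 0
      rw [zero_add] at this
      rw [this, add_comm]
  let s : Fin 6 → Fin 6 := fun i => (g (i, 0)).1
  have hs : Function.Injective s := by
    intro i j hij
    have h3 : g (i, (g (j, 0)).2 - (g (i, 0)).2) = g (j, 0) := by
      rw [h2]
      have : (g (i, 0)).1 = (g (j, 0)).1 := hij
      rw [this]
      simp
    exact congrArg Prod.fst (g.injective h3)
  let σ : Perm (Fin 6) := Equiv.ofBijective s (Finite.injective_iff_bijective.1 hs)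
  refine ⟨fun i => (g (σ.symm i, 0)).2, σ, ?_⟩
  ext1 ⟨i, b⟩
  rw [h2, mk_apply]
  simp only [symm_apply_apply]
  rfl

theorem mk_comm (v : Fin 6 → ZMod 2) (σ : Perm (Fin 6)) : mk v σ * a = a * mk v σ := by
  unfold a
  rw [mk_mul, mk_mul]
  congr 1
  ext1 i
  show v i + 1 = 1 + v i
  exact add_comm _ _

/-- the sign of `mk v σ` -/
theorem sign_mk (v : Fin 6 → ZMod 2) (σ : Perm (Fin 6)) :
    Perm.sign (mk v σ) = if ∑ i, v i = 0 then 1 else -1 := by
  have h1 : mk v σ = mk v 1 * mk 0 σ := by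
    rw [mk_mul, one_mul]
    congr 1
    ext1 i; simp
  have h2 : mk 0 σ = (prodCongrLeft (fun _ : ZMod 2 => σ) : Perm Pt) := by
    ext1 p
    rw [mk_apply]
    show (σ p.1, p.2 + 0) = (σ p.1, p.2)
    rw [add_zero]
  have h3 : mk v 1 = (prodCongrRight (fun i : Fin 6 => Equiv.addRight (v i)) : Perm Pt) := by
    ext1 p
    rw [mk_apply]
    rfl
  rw [h1, Perm.sign_mul, h2, h3, Perm.sign_prodCongrLeft, Perm.sign_prodCongrRight]
  have h4 : ∏ _k : ZMod 2, Perm.sign σ = 1 := by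
    rw [Finset.prod_const]
    show Perm.sign σ ^ 2 = 1
    exact Int.units_sq _
  rw [h4, mul_one]
  have h5 : ∀ x : ZMod 2, Perm.sign (Equiv.addRight x) = if x = 0 then 1 else -1 := by decide
  have h6 : ∀ x y : ZMod 2, (if x + y = 0 then (1 : ℤˣ) else -1) =
      (if x = 0 then 1 else -1) * (if y = 0 then 1 else -1) := by decide
  simp only [h5]
  clear h1 h2 h3 h4 h5
  induction (Finset.univ : Finset (Fin 6)) using Finset.induction_on with
  | empty => simp
  | insert i s hi ih => rw [Finset.prod_insert hi, Finset.sum_insert hi, h6, ih]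

/-- the group `C_{A₁₂}(a)` -/
def X : Subgroup (Perm Pt) where
  carrier := {g | g * a = a * g ∧ Perm.sign g = 1}
  mul_mem' := by
    rintro g h ⟨hg1, hg2⟩ ⟨hh1, hh2⟩
    refine ⟨?_, by rw [Perm.sign_mul, hg2, hh2, one_mul]⟩
    rw [mul_assoc, hh1, ← mul_assoc, hg1, mul_assoc]
  one_mem' := ⟨by rw [one_mul, mul_one], Perm.sign_one⟩
  inv_mem' := by
    rintro g ⟨hg1, hg2⟩
    refine ⟨?_, by rw [Perm.sign_inv, hg2]⟩
    rw [inv_mul_eq_iff_eq_mul, ← mul_assoc, eq_mul_inv_iff_mul_eq, hg1]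

theorem mk_mem {v : Fin 6 → ZMod 2} {σ : Perm (Fin 6)} : mk v σ ∈ X ↔ ∑ i, v i = 0 := by
  constructor
  · rintro ⟨-, h⟩
    rw [sign_mk] at h
    by_contra hne
    rw [if_neg hne] at h
    exact absurd h (by decide)
  · intro h
    exact ⟨mk_comm v σ, by rw [sign_mk, if_pos h]⟩

theorem mem_X {g : Perm Pt} : g ∈ X ↔ ∃ v σ, g = mk v σ ∧ ∑ i, v i = 0 := by
  constructor
  · intro h
    obtain ⟨v, σ, rfl⟩ := exists_mk h.1
    exact ⟨v, σ, rfl, mk_mem.1 h⟩
  · rintro ⟨v, σ, rfl, h⟩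
    exact mk_mem.2 h

theorem sum_comp (w : Fin 6 → ZMod 2) (σ : Perm (Fin 6)) : ∑ i, (w ∘ ⇑σ) i = ∑ i, w i :=
  Equiv.sum_comp σ w

theorem a_mem : a ∈ X := mk_mem.2 (by decide)

/-- **`a` is not a square in `X`.** -/
theorem not_sq {g : Perm Pt} (hg : g ∈ X) : g * g ≠ a := by
  obtain ⟨v, σ, rfl, hv⟩ := mem_X.1 hg
  intro h
  rw [mk_mul] at h
  obtain ⟨h1, h2⟩ := mk_inj h
  have h3 : ∀ i, v (σ.symm i) = v i + 1 := by
    intro i
    have h4 := congrFun h1 i
    have h5 : v i + v (σ.symm i) = 1 := h4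
    have h6 : ∀ x y : ZMod 2, x + y = 1 → y = x + 1 := by decide
    exact h6 _ _ h5
  -- as many ones as zeros
  have h4 : (Finset.univ.filter (fun i => v i = 1)).card = (Finset.univ.filter (fun i => v i = 0)).card := by
    apply Finset.card_bij (fun i _ => σ.symm i)
    · intro i hi
      rw [Finset.mem_filter] at hi ⊢
      refine ⟨Finset.mem_univ _, ?_⟩
      rw [h3, hi.2]; decide
    · intro i _ j _ hij
      exact σ.symm.injective hij
    · intro j hj
      rw [Finset.mem_filter] at hj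
      refine ⟨σ j, ?_, by simp⟩
      rw [Finset.mem_filter]
      refine ⟨Finset.mem_univ _, ?_⟩
      have h5 := h3 (σ j)
      rw [symm_apply_apply, hj.2] at h5
      have h6 : ∀ x : ZMod 2, 0 = x + 1 → x = 1 := by decide
      exact h6 _ h5
  have h5 : ∀ v : Fin 6 → ZMod 2, ∑ i, v i = 0 →
      (Finset.univ.filter (fun i => v i = 1)).card ≠ (Finset.univ.filter (fun i => v i = 0)).card := by
    (set_option synthInstance.maxSize 100000 in exact Cfsg.Agent.Lib.Refl.of (by decide +kernel))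
  exact h5 v hv h4

/-- unit vectors -/
def e (i : Fin 6) : Fin 6 → ZMod 2 := Pi.single i 1

theorem e_comp (i : Fin 6) (σ : Perm (Fin 6)) : e i ∘ ⇑σ.symm = e (σ i) := by
  ext1 j
  show (Pi.single i 1 : Fin 6 → ZMod 2) (σ.symm j) = (Pi.single (σ i) 1 : Fin 6 → ZMod 2) j
  rw [Pi.single_apply, Pi.single_apply]
  by_cases h : j = σ i
  · rw [if_pos h, if_pos (by rw [h, symm_apply_apply])]
  · rw [if_neg h, if_neg (fun h2 => h (by rw [← h2, apply_symm_apply]))]

theorem sum_ee (i j : Fin 6) : ∑ k, (e i + e j) k = 0 := by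
  revert i j; decide +kernel

theorem add_self (v : Fin 6 → ZMod 2) : v + v = 0 := by
  ext1 i
  have : ∀ x : ZMod 2, x + x = 0 := by decide
  exact this _

/-- **The elements `mk v 1`, `v ≠ 0, 1`, are squares in `X`.** -/
theorem exists_sq {v : Fin 6 → ZMod 2} (hv : ∑ i, v i = 0) (h0 : v ≠ 0) (h1 : v ≠ 1) :
    ∃ g ∈ X, g * g = mk v 1 := by
  have key : ∀ v : Fin 6 → ZMod 2, ∑ i, v i = 0 → v = 0 ∨ v = 1 ∨
      ∃ i j k l : Fin 6, swap i j * swap k l = swap k l * swap i j ∧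
        (e i + e k) + (e i + e k) ∘ ⇑(swap i j * swap k l : Perm (Fin 6)).symm = v := by
    have k2 : ∀ v : Fin 6 → ZMod 2, ∑ i, v i = 0 → v = 0 ∨ v = 1 ∨
        (fun i j k l : Fin 6 => swap i j * swap k l = swap k l * swap i j ∧
          (e i + e k) + (e i + e k) ∘ ⇑(swap i j * swap k l : Perm (Fin 6)).symm = v)
        (((List.finRange 6).filter fun i => v i = 1).getD 0 0) (((List.finRange 6).filter fun i => v i = 1).getD 1 0)
        (((List.finRange 6).filter fun i => v i = 1).getD 2 (((List.finRange 6).filter fun i => v i = 0).getD 0 0))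
        (((List.finRange 6).filter fun i => v i = 1).getD 3 (((List.finRange 6).filter fun i => v i = 0).getD 0 0)) := by
      beta_reduce; decide +kernel
    exact fun v hv => (k2 v hv).imp_right (Or.imp_right fun h => ⟨_, _, _, _, h⟩)
  rcases key v hv with h | h | ⟨i, j, k, l, h2, h3⟩
  · exact absurd h h0
  · exact absurd h h1
  · refine ⟨mk (e i + e k) (swap i j * swap k l), mk_mem.2 (sum_ee i k), ?_⟩
    rw [mk_mul, h3]
    congr 1
    calc swap i j * swap k l * (swap i j * swap k l) = swap i j * swap k l * (swap k l * swap i j) := by rw [h2]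
      _ = 1 := by rw [mul_assoc, ← mul_assoc (swap k l), swap_mul_self, one_mul, swap_mul_self]

/-- elements centralising all `mk v 1` are of this form -/
theorem cent {g : Perm Pt} (hg : g ∈ X) (h : ∀ v, ∑ i, v i = 0 → g * mk v 1 = mk v 1 * g) :
    ∃ v, g = mk v 1 ∧ ∑ i, v i = 0 := by
  obtain ⟨w, σ, rfl, hw⟩ := mem_X.1 hg
  have h1 : σ = 1 := by
    ext1 i
    by_contra hne
    have hne' : σ i ≠ i := hne
    obtain ⟨k, hk1, hk2⟩ : ∃ k, k ≠ i ∧ k ≠ σ i := by
      have : ∀ i j : Fin 6, ∃ k, k ≠ i ∧ k ≠ j := by decide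
      exact this _ _
    have h2 := h (e i + e k) (sum_ee i k)
    rw [mk_mul, mk_mul] at h2
    have h3 := congrFun (mk_inj h2).1 (σ i)
    have h4 : (e i + e k) ∘ ⇑σ.symm = e (σ i) + e (σ k) := by
      rw [← e_comp, ← e_comp]; rfl
    rw [h4] at h3
    have h5 : w (σ i) + (e (σ i) + e (σ k)) (σ i) = (e i + e k) (σ i) + w (σ i) := h3
    have h6 : (e (σ i) + e (σ k)) (σ i) = 1 := by
      have : σ k ≠ σ i := fun h => hk1 (σ.injective h)
      show (Pi.single (σ i) 1 : Fin 6 → ZMod 2) (σ i) + (Pi.single (σ k) 1 : Fin 6 → ZMod 2) (σ i) = 1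
      rw [Pi.single_eq_same, Pi.single_eq_of_ne this.symm, add_zero]
    have h7 : (e i + e k) (σ i) = 0 := by
      show (Pi.single i 1 : Fin 6 → ZMod 2) (σ i) + (Pi.single k 1 : Fin 6 → ZMod 2) (σ i) = 0
      rw [Pi.single_eq_of_ne hne', Pi.single_eq_of_ne hk2.symm, add_zero]
    rw [h6, h7, zero_add] at h5
    exact absurd (add_left_cancel (h5.trans (add_zero _).symm)) (by decide)
  subst h1
  exact ⟨w, rfl, hw⟩

/-- the center of `X` -/
theorem center {g : Perm Pt} (hg : g ∈ X) (h : ∀ x ∈ X, g * x = x * g) : g = 1 ∨ g = a := by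
  obtain ⟨v, rfl, hv⟩ := cent hg (fun v hv => h _ (mk_mem.2 hv))
  have h1 : ∀ i j, v i = v j := by
    intro i j
    have h2 := h (mk 0 (swap i j)) (mk_mem.2 (by simp))
    rw [mk_mul, mk_mul] at h2
    have h3 := congrFun (mk_inj h2).1 i
    have h4 : v i + 0 = 0 + v ((swap i j).symm i) := h3
    rw [add_zero, zero_add, symm_swap, swap_apply_left] at h4
    exact h4
  have hz : ∀ b : ZMod 2, b = 0 ∨ b = 1 := by decide
  rcases hz (v 0) with h0 | h0
  · left
    rw [← mk_one]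
    congr 1
    ext1 i
    rw [h1 i 0, h0]; rfl
  · right
    unfold a
    congr 1
    ext1 i
    rw [h1 i 0, h0]; rfl

section normal
variable {K : Subgroup (Perm Pt)} (hKX : K ≤ X) (hK : ∀ x ∈ X, ∀ k ∈ K, x * k * x⁻¹ ∈ K)
include hK

omit hK in
theorem mk_inv_one (v : Fin 6 → ZMod 2) : (mk v 1)⁻¹ = mk v 1 := by
  rw [inv_eq_iff_mul_eq_one, mk_mul, one_mul, ← mk_one]
  congr 1
  exact add_self v

omit hK in
theorem mk_one_mul (v w : Fin 6 → ZMod 2) : mk v 1 * mk w 1 = mk (v + w) 1 := by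
  rw [mk_mul, one_mul]
  rfl

omit hK in
theorem conj_mk (v : Fin 6 → ZMod 2) (σ : Perm (Fin 6)) : mk 0 σ * mk v 1 * (mk 0 σ)⁻¹ = mk (v ∘ ⇑σ.symm) 1 := by
  rw [mul_inv_eq_iff_eq_mul, mk_mul, mk_mul, mul_one, one_mul]
  congr 1
  ext1 i; simp

theorem all_V {v : Fin 6 → ZMod 2} (hv : mk v 1 ∈ K) (h0 : v ≠ 0) (h1 : v ≠ 1) (u : Fin 6 → ZMod 2)
    (hu : ∑ i, u i = 0) : mk u 1 ∈ K := by
  -- two different coordinates
  obtain ⟨i, j, hij⟩ : ∃ i j, v i ≠ v j := by
    by_contra hcon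
    push Not at hcon
    have hz : ∀ b : ZMod 2, b = 0 ∨ b = 1 := by decide
    rcases hz (v 0) with h | h
    · exact h0 (by ext1 i; rw [hcon i 0, h]; rfl)
    · exact h1 (by ext1 i; rw [hcon i 0, h]; rfl)
  have hne : i ≠ j := fun h => hij (by rw [h])
  have h2 : mk (e i + e j) 1 ∈ K := by
    have h3 := K.mul_mem hv (hK (mk 0 (swap i j)) (mk_mem.2 (by simp)) _ hv)
    rw [conj_mk, mk_one_mul] at h3
    have h4 : v + v ∘ ⇑(swap i j : Perm (Fin 6)).symm = e i + e j := by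
      have key : ∀ (v : Fin 6 → ZMod 2) (i j : Fin 6), v i ≠ v j →
          v + v ∘ ⇑(swap i j : Perm (Fin 6)).symm = e i + e j := by (set_option synthInstance.maxSize 100000 in exact Cfsg.Agent.Lib.Refl.of (by decide +kernel))
      exact key v i j hij
    rwa [h4] at h3
  have h3 : ∀ k l, k ≠ l → mk (e k + e l) 1 ∈ K := by
    intro k l hkl
    obtain ⟨σ, hσ1, hσ2⟩ : ∃ σ : Perm (Fin 6), σ i = k ∧ σ j = l := by
      refine ⟨swap (swap i k j) l * swap i k, ?_, ?_⟩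
      · rw [Perm.mul_apply, swap_apply_left, swap_apply_of_ne_of_ne _ hkl]
        intro h
        apply hne
        have := congrArg (swap i k) h
        rw [swap_apply_right, swap_apply_self] at this
        exact this
      · rw [Perm.mul_apply, swap_apply_left]
    have h4 := hK (mk 0 σ) (mk_mem.2 (by simp)) _ h2
    rw [conj_mk] at h4
    have h5 : (e i + e j) ∘ ⇑σ.symm = e (σ i) + e (σ j) := by
      rw [← e_comp, ← e_comp]; rfl
    rw [h5, hσ1, hσ2] at h4
    exact h4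
  -- sums
  have h4 : ∀ s : Finset (Fin 6), mk (∑ k ∈ s, u k • (e k + e 0)) 1 ∈ K := by
    intro s
    induction s using Finset.induction_on with
    | empty => rw [Finset.sum_empty, mk_one]; exact K.one_mem
    | insert k s hk ih =>
      rw [Finset.sum_insert hk, ← mk_one_mul]
      refine K.mul_mem ?_ ih
      have hz : ∀ b : ZMod 2, b = 0 ∨ b = 1 := by decide
      rcases hz (u k) with h | h
      · rw [h, zero_smul, mk_one]; exact K.one_mem
      · rw [h, one_smul]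
        by_cases hk0 : k = 0
        · rw [hk0, add_self, mk_one]; exact K.one_mem
        · exact h3 k 0 hk0
  have h5 : ∑ k, u k • (e k + e 0) = u := by
    simp only [smul_add, Finset.sum_add_distrib, ← Finset.sum_smul, hu, zero_smul, add_zero]
    ext1 i
    rw [Finset.sum_apply]
    simp [e, Pi.single_apply]
  have h6 := h4 Finset.univ
  rwa [h5] at h6

theorem exists_V {v : Fin 6 → ZMod 2} {σ : Perm (Fin 6)} (hv : mk v σ ∈ K) (hσ : σ ≠ 1) :
    ∃ u, u ≠ 0 ∧ u ≠ 1 ∧ mk u 1 ∈ K := by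
  obtain ⟨i, hi⟩ : ∃ i, σ i ≠ i := by
    by_contra hcon
    push Not at hcon
    exact hσ (Perm.ext hcon)
  -- commutators
  have h1 : ∀ k, mk (e (σ i) + e (σ k) + (e i + e k)) 1 ∈ K := by
    intro k
    have h2 := hK (mk (e i + e k) 1) (mk_mem.2 (sum_ee i k)) _ (K.inv_mem hv)
    have h3 := K.mul_mem hv h2
    have h4 : mk v σ * (mk (e i + e k) 1 * (mk v σ)⁻¹ * (mk (e i + e k) 1)⁻¹) =
        mk (e (σ i) + e (σ k) + (e i + e k)) 1 := by
      have h5 : mk v σ * mk (e i + e k) 1 = mk (e (σ i) + e (σ k)) 1 * mk v σ := by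
        rw [mk_mul, mk_mul, mul_one, one_mul]
        congr 1
        have : (e i + e k) ∘ ⇑σ.symm = e (σ i) + e (σ k) := by
          rw [← e_comp, ← e_comp]; rfl
        rw [this]
        exact add_comm _ _
      rw [mk_inv_one, ← mul_assoc, ← mul_assoc, h5, mul_assoc (mk _ 1), mul_inv_cancel, mul_one, mk_one_mul]
    rwa [h4] at h3
  have key : ∀ i j k l : Fin 6, e i + e j + (e k + e l) ≠ 1 := by (set_option synthInstance.maxSize 100000 in exact Cfsg.Agent.Lib.Refl.of (by decide +kernel))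
  by_cases h2 : σ (σ i) = i
  · obtain ⟨k, hk1, hk2⟩ : ∃ k, k ≠ i ∧ k ≠ σ i := by
      have : ∀ i j : Fin 6, ∃ k, k ≠ i ∧ k ≠ j := by decide
      exact this _ _
    refine ⟨_, ?_, key _ _ _ _, h1 k⟩
    intro h3
    have h4 := congrFun h3 i
    have h5 : σ k ≠ i := fun h => hk2 (σ.injective (h.trans h2.symm))
    have h6 : (e (σ i) + e (σ k) + (e i + e k)) i = 1 := by
      show (Pi.single (σ i) 1 : Fin 6 → ZMod 2) i + (Pi.single (σ k) 1 : Fin 6 → ZMod 2) i +
        ((Pi.single i 1 : Fin 6 → ZMod 2) i + (Pi.single k 1 : Fin 6 → ZMod 2) i) = 1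
      rw [Pi.single_eq_same, Pi.single_eq_of_ne hi.symm, Pi.single_eq_of_ne h5.symm,
        Pi.single_eq_of_ne hk1.symm]
      simp
    rw [h6] at h4
    exact absurd (show (1 : ZMod 2) = 0 from h4) (by decide)
  · refine ⟨_, ?_, key _ _ _ _, h1 (σ i)⟩
    intro h3
    have h4 := congrFun h3 i
    have h6 : (e (σ i) + e (σ (σ i)) + (e i + e (σ i))) i = 1 := by
      show (Pi.single (σ i) 1 : Fin 6 → ZMod 2) i + (Pi.single (σ (σ i)) 1 : Fin 6 → ZMod 2) i +
        ((Pi.single i 1 : Fin 6 → ZMod 2) i + (Pi.single (σ i) 1 : Fin 6 → ZMod 2) i) = 1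
      rw [Pi.single_eq_same, Pi.single_eq_of_ne hi.symm, Pi.single_eq_of_ne (Ne.symm h2)]
      simp
    rw [h6] at h4
    exact absurd (show (1 : ZMod 2) = 0 from h4) (by decide)

include hKX

/-- **Normal subgroups of `X`.** -/
theorem normal_cases : (∀ k ∈ K, ∃ v, k = mk v 1) ∨
    (∀ v σ, ∑ i, v i = 0 → Perm.sign σ = 1 → mk v σ ∈ K) := by
  by_cases h : ∀ k ∈ K, ∃ v, k = mk v 1
  · exact Or.inl h
  right
  push Not at h
  obtain ⟨k, hk, hk2⟩ := h
  obtain ⟨v, σ, rfl, hv⟩ := mem_X.1 (hKX hk)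
  have hσ : σ ≠ 1 := fun h => hk2 v (by rw [h])
  obtain ⟨u, hu0, hu1, hu⟩ := exists_V hK hk hσ
  have hall := all_V hK hu hu0 hu1
  -- the image in `S₆`
  let L : Subgroup (Perm (Fin 6)) :=
    { carrier := {τ | mk 0 τ ∈ K}
      mul_mem' := by
        intro τ ρ h1 h2
        have h3 := K.mul_mem h1 h2
        rw [mk_mul] at h3
        simpa using h3
      one_mem' := by show mk 0 1 ∈ K; rw [mk_one]; exact K.one_mem
      inv_mem' := by
        intro τ h1
        have h2 := K.inv_mem h1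
        have h3 : (mk 0 τ)⁻¹ = mk 0 τ⁻¹ := by
          rw [inv_eq_iff_mul_eq_one, mk_mul, mul_inv_cancel, ← mk_one]
          congr 1
        rw [h3] at h2
        exact h2 }
  have hLσ : σ ∈ L := by
    show mk 0 σ ∈ K
    have h1 : mk 0 σ = mk v 1 * mk v σ := by
      rw [mk_mul, one_mul]
      congr 1
      exact (add_self v).symm
    rw [h1]
    exact K.mul_mem (hall v hv) hk
  have hLn : L.Normal := by
    refine ⟨fun τ h1 ρ => ?_⟩
    have h2 := hK (mk 0 ρ) (mk_mem.2 (by simp)) _ h1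
    have h3 : (mk 0 ρ)⁻¹ = mk 0 ρ⁻¹ := by
      rw [inv_eq_iff_mul_eq_one, mk_mul, mul_inv_cancel, ← mk_one]
      congr 1
    rw [h3, mk_mul, mk_mul] at h2
    show mk 0 (ρ * τ * ρ⁻¹) ∈ K
    simpa using h2
  have hLne : L ≠ ⊥ := by
    intro h1
    rw [h1] at hLσ
    exact hσ (Subgroup.mem_bot.1 hLσ)
  have hL : Nontrivial L := (Subgroup.nontrivial_iff_ne_bot L).2 hLne
  have hA : alternatingGroup (Fin 6) ≤ L := Equiv.Perm.alternatingGroup_le_of_normal (by simp) hL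
  intro w τ hw hτ
  have h1 : mk w τ = mk w 1 * mk 0 τ := by
    rw [mk_mul, one_mul]
    congr 1
    ext1 i; simp
  rw [h1]
  exact K.mul_mem (hall w hw) (hA (Perm.mem_alternatingGroup.2 hτ))

/-- nontrivial normal subgroups contain `a` -/
theorem a_mem_normal (hne : K ≠ ⊥) : a ∈ K := by
  rcases normal_cases hKX hK with h | h
  · obtain ⟨⟨k, hk⟩, hk1⟩ := K.ne_bot_iff_exists_ne_one.1 hne
    obtain ⟨v, hv⟩ := h k hk
    by_cases h1 : v = 1
    · have : k = a := by rw [hv, h1]; rfl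
      rw [← this]; exact hk
    · have h0 : v ≠ 0 := by
        intro h0
        apply hk1
        apply Subtype.ext
        show k = 1
        rw [hv, h0, mk_one]
      rw [hv] at hk
      exact all_V hK hk h0 h1 1 (by decide)
  · exact h 1 1 (by decide) Perm.sign_one

end normal

end Cfsg.Agent.H333.AltModel
end

-- part: H333/AltModelB
section
/-!
# Involutions and order of the centralizer of a fixed-point-free involution in `A₁₂` (helper333)
-/

set_option autoImplicit false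

namespace Cfsg.Agent.H333.AltModel

open Equiv

/-- `(0 1)(2 3)` -/
def tau : Perm (Fin 6) := swap (0 : Fin 6) 1 * swap (2 : Fin 6) 3

/-- the non-square involution -/
def bb : Perm Pt := mk (e 4 + e 5) tau

theorem bb_mem : bb ∈ X := mk_mem.2 (sum_ee 4 5)

theorem key_tau : ∀ v : Fin 6 → ZMod 2, ∑ i, v i = 0 → v + v ∘ ⇑tau.symm = 0 →
    ∃ w : Fin 6 → ZMod 2, ∑ i, w i = 0 ∧ (w + v + w ∘ ⇑tau.symm = 0 ∨ w + v + w ∘ ⇑tau.symm = e 4 + e 5) := by
  decide +kernel

/-- a root of `tau` -/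
def kap : Perm (Fin 6) := swap (0 : Fin 6) 3 * swap (0 : Fin 6) 1 * swap (0 : Fin 6) 2

theorem kap_sq : kap * kap = tau := by decide +kernel

theorem tau_sq : tau * tau = 1 := by decide +kernel

theorem isConj_tau {σ : Perm (Fin 6)} (h1 : σ ≠ 1) (h2 : σ * σ = 1) (h3 : Perm.sign σ = 1) : IsConj tau σ := by
  rw [Perm.isConj_iff_cycleType_eq]
  have hct : ∀ ρ : Perm (Fin 6), ρ * ρ = 1 → ∃ k, ρ.cycleType = Multiset.replicate k 2 := by
    intro ρ hρ
    refine ⟨ρ.cycleType.card, ?_⟩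
    rw [Multiset.eq_replicate]
    refine ⟨rfl, fun n hn => ?_⟩
    have h4 : n ∣ orderOf ρ := Perm.dvd_of_mem_cycleType hn
    have h5 : orderOf ρ ∣ 2 := orderOf_dvd_of_pow_eq_one (by rw [pow_two, hρ])
    have h6 : 2 ≤ n := Perm.two_le_of_mem_cycleType hn
    have h7 := Nat.le_of_dvd (by norm_num) (h4.trans h5)
    omega
  have hk : ∀ (ρ : Perm (Fin 6)) (k : ℕ), ρ.cycleType = Multiset.replicate k 2 → ρ ≠ 1 → Perm.sign ρ = 1 → k = 2 := by
    intro ρ k hk hρ1 hρ2
    have h4 : ρ.cycleType.sum ≤ 6 := by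
      rw [Perm.sum_cycleType]
      exact (Finset.card_le_univ _).trans (by simp)
    rw [hk, Multiset.sum_replicate, smul_eq_mul] at h4
    have h5 := Perm.sign_of_cycleType ρ
    rw [hρ2, hk, Multiset.sum_replicate, Multiset.card_replicate, smul_eq_mul] at h5
    have hk3 : k = 0 ∨ k = 1 ∨ k = 2 ∨ k = 3 := by omega
    rcases hk3 with rfl | rfl | rfl | rfl
    · exfalso
      apply hρ1
      rw [← Perm.cycleType_eq_zero, hk]
      rfl
    · exact absurd h5 (by decide)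
    · rfl
    · exact absurd h5 (by decide)
  obtain ⟨k, hk1⟩ := hct σ h2
  obtain ⟨l, hl1⟩ := hct tau tau_sq
  have e1 := hk σ k hk1 h1 h3
  have e2 := hk tau l hl1 (by decide +kernel) (by decide +kernel)
  rw [hk1, hl1, e1, e2]

/-- **Involutions of `2⁵ A₆`.** -/
theorem inv_cases {v : Fin 6 → ZMod 2} {σ : Perm (Fin 6)} (hv : ∑ i, v i = 0) (hσ : Perm.sign σ = 1)
    (h : mk v σ * mk v σ = 1) : σ = 1 ∨ (∃ g ∈ X, g * g = mk v σ) ∨ (∃ c ∈ X, c * bb * c⁻¹ = mk v σ) := by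
  by_cases h1 : σ = 1
  · exact Or.inl h1
  right
  rw [mk_mul, ← mk_one] at h
  obtain ⟨h2, h3⟩ := mk_inj h
  obtain ⟨ρ, hρ⟩ := isConj_iff.1 (isConj_tau h1 h3 hσ)
  -- reduction to `tau`
  have e1 : mk v σ = mk 0 ρ * mk (v ∘ ⇑ρ) tau * (mk 0 ρ)⁻¹ := by
    rw [eq_mul_inv_iff_mul_eq, mk_mul, mk_mul, ← hρ]
    congr 1
    · ext1 i; simp
    · simp [mul_assoc]
  have h4 : v ∘ ⇑ρ + (v ∘ ⇑ρ) ∘ ⇑tau.symm = 0 := by
    ext1 i
    have h5 := congrFun h2 (ρ i)
    have h6 : v (ρ i) + v (σ.symm (ρ i)) = 0 := h5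
    have h7 : σ.symm (ρ i) = ρ (tau.symm i) := by
      rw [symm_apply_eq, ← hρ]
      simp only [_root_.Equiv.Perm.coe_mul, _root_.Equiv.Perm.coe_inv, _root_.Function.comp_apply, _root_.Equiv.symm_apply_apply, _root_.Equiv.apply_symm_apply]
    rw [h7] at h6
    exact h6
  obtain ⟨w, hw, hw2⟩ := key_tau (v ∘ ⇑ρ) (by rw [sum_comp, hv]) h4
  have hwX : mk w 1 ∈ X := mk_mem.2 hw
  have hρX : mk 0 ρ ∈ X := mk_mem.2 (by simp)
  have e2 : mk w 1 * mk (v ∘ ⇑ρ) tau * (mk w 1)⁻¹ = mk (w + v ∘ ⇑ρ + w ∘ ⇑tau.symm) tau := by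
    rw [mk_inv_one, mk_mul, mk_mul, one_mul, mul_one]
    rfl
  have e3 : mk v σ = (mk 0 ρ * (mk w 1)⁻¹) * mk (w + v ∘ ⇑ρ + w ∘ ⇑tau.symm) tau * (mk 0 ρ * (mk w 1)⁻¹)⁻¹ := by
    rw [← e2, e1]
    simp only [mul_assoc, _root_.mul_assoc, _root_.inv_mul_cancel_left, _root_.mul_inv_rev, _root_.inv_inv]
  have hc : mk 0 ρ * (mk w 1)⁻¹ ∈ X := X.mul_mem hρX (X.inv_mem hwX)
  rcases hw2 with h5 | h5
  · left
    refine ⟨(mk 0 ρ * (mk w 1)⁻¹) * mk 0 kap * (mk 0 ρ * (mk w 1)⁻¹)⁻¹,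
      X.mul_mem (X.mul_mem hc (mk_mem.2 (by simp))) (X.inv_mem hc), ?_⟩
    rw [e3, h5, ← kap_sq]
    have e4 : mk 0 (kap * kap) = mk 0 kap * mk 0 kap := by
      rw [mk_mul]; simp
    rw [e4]
    simp only [mul_assoc, _root_.mul_assoc, _root_.mul_inv_rev, _root_.inv_inv, _root_.inv_mul_cancel_left, _root_.mul_inv_cancel_left]
  · right
    exact ⟨_, hc, by rw [e3, h5]; rfl⟩

/-- `a b` is a square -/
theorem ab_sq : ∃ g ∈ X, g * g = a * bb := by
  refine ⟨mk (e 0 + e 2) 1 * mk 0 kap * mk (e 0 + e 2) 1, ?_, ?_⟩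
  · exact X.mul_mem (X.mul_mem (mk_mem.2 (sum_ee 0 2)) (mk_mem.2 (by simp))) (mk_mem.2 (sum_ee 0 2))
  · decide +kernel

/-- three commuting conjugates of `b` with product `1` -/
theorem triple : ∃ c ∈ X, ∃ d ∈ X, bb * (c * bb * c⁻¹) = (c * bb * c⁻¹) * bb ∧
    bb * (c * bb * c⁻¹) = d * bb * d⁻¹ := by
  refine ⟨mk (e 0 + e 2) (swap (0 : Fin 6) 4 * swap (1 : Fin 6) 5), mk_mem.2 (sum_ee 0 2),
    mk (e 0 + e 4) (swap (2 : Fin 6) 4 * swap (3 : Fin 6) 5), mk_mem.2 (sum_ee 0 4), ?_, ?_⟩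
  · decide +kernel
  · decide +kernel

theorem card_X : Nat.card X = 23040 := by
  have h1 : Nat.card ({v : Fin 6 → ZMod 2 // ∑ i, v i = 0} × Perm (Fin 6)) = 23040 := by
    rw [Nat.card_prod, Nat.card_eq_fintype_card, Nat.card_eq_fintype_card, Fintype.card_perm, Fintype.card_fin]
    have : Fintype.card {v : Fin 6 → ZMod 2 // ∑ i, v i = 0} = 32 := by decide +kernel
    rw [this]
    rfl
  rw [← h1]
  symm
  refine Nat.card_eq_of_bijective
    (fun p : {v : Fin 6 → ZMod 2 // ∑ i, v i = 0} × Perm (Fin 6) => (⟨mk p.1.1 p.2, mk_mem.2 p.1.2⟩ : X)) ⟨?_, ?_⟩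
  · rintro ⟨⟨v, hv⟩, σ⟩ ⟨⟨w, hw⟩, τ⟩ h
    obtain ⟨h1, h2⟩ := mk_inj (congrArg Subtype.val h)
    have h1' : v = w := h1
    have h2' : σ = τ := h2
    subst h1' h2'
    rfl
  · rintro ⟨g, hg⟩
    obtain ⟨v, σ, rfl, hv⟩ := mem_X.1 hg
    exact ⟨(⟨v, hv⟩, σ), rfl⟩

end Cfsg.Agent.H333.AltModel
end

-- part: H333/AltGrp
section
/-!
# A group with a 2-central involution whose centralizer is that of a fixed-point-free involution in `A₁₂`

If `O(G) = 1` and `α` is not isolated then `G` is simple.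
-/

set_option autoImplicit false

namespace Cfsg.Agent.H333.AltGrp

open Cfsg.Agent.H333.AltModel Cfsg.Agent.Lib.Cores

variable {G : Type*} [Group G]

/-- the centralizer of the involution `α` is the image of `X` -/
structure Hyp (α : G) (ι : X →* G) : Prop where
  ord : orderOf α = 2
  inj : Function.Injective ι
  range : ι.range = Subgroup.centralizer ({α} : Set G)

section
variable {α : G} {ι : X →* G} (h : Hyp α ι)
include h

theorem aa : α * α = 1 := by rw [← pow_two, ← h.ord]; exact pow_orderOf_eq_one α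

theorem ne_one : α ≠ 1 := by
  intro h1
  have := h.ord
  rw [h1, orderOf_one] at this
  exact absurd this (by norm_num)

theorem mem_range {g : G} : g ∈ ι.range ↔ g * α = α * g := by
  rw [h.range, Subgroup.mem_centralizer_singleton_iff]

theorem exists_pre {g : G} (hg : g * α = α * g) : ∃ x, ι x = g := (mem_range h).2 hg

theorem comm_range (x : X) : ι x * α = α * ι x := (mem_range h).1 ⟨x, rfl⟩

theorem map_a : ι ⟨a, a_mem⟩ = α := by
  obtain ⟨x, hx⟩ := exists_pre h rfl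
  have h1 : (x : Equiv.Perm Pt) = 1 ∨ (x : Equiv.Perm Pt) = a := by
    refine center x.2 fun y hy => ?_
    have h2 : ι (x * ⟨y, hy⟩) = ι (⟨y, hy⟩ * x) := by
      rw [map_mul, map_mul, hx]
      exact (comm_range h _).symm
    exact congrArg Subtype.val (h.inj h2)
  rcases h1 with h1 | h1
  · exfalso
    apply ne_one h
    have h2 : x = 1 := Subtype.ext h1
    rw [← hx, h2, map_one]
  · have h2 : x = ⟨a, a_mem⟩ := Subtype.ext h1
    rw [← h2]; exact hx

/-- `α` is not a square -/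
theorem not_square (g : G) : g * g ≠ α := by
  intro h1
  obtain ⟨x, hx⟩ := exists_pre h (g := g) (by rw [← h1, mul_assoc])
  have h2 : x * x = ⟨a, a_mem⟩ := by
    apply h.inj
    rw [map_mul, hx, h1, map_a h]
  exact not_sq x.2 (congrArg Subtype.val h2)

/-- conjugates of `α` are not squares -/
theorem not_square_conj (g y : G) : y * y ≠ g * α * g⁻¹ := by
  intro h1
  apply not_square h (g⁻¹ * y * g)
  have : g⁻¹ * y * g * (g⁻¹ * y * g) = g⁻¹ * (y * y) * g := by simp only [mul_assoc, _root_.mul_assoc, _root_.mul_inv_cancel_left]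
  rw [this, h1]
  simp [mul_assoc]

/-- a conjugate of `α` in `V` is `α` -/
theorem eq_of_V (g : G) {v : Fin 6 → ZMod 2} (hv : mk v 1 ∈ X) (h1 : g * α * g⁻¹ = ι ⟨mk v 1, hv⟩) :
    g * α * g⁻¹ = α := by
  by_cases h0 : v = 0
  · exfalso
    apply ne_one h
    have h2 : (⟨mk v 1, hv⟩ : X) = 1 := Subtype.ext (by show mk v 1 = 1; rw [h0, mk_one])
    rw [h2, map_one] at h1
    have := congrArg (fun z => g⁻¹ * z * g) h1
    simpa [mul_assoc] using this
  by_cases h2 : v = 1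
  · rw [h1, ← map_a h]
    congr 1
    exact Subtype.ext (by show mk v 1 = a; rw [h2]; rfl)
  · exfalso
    obtain ⟨y, hy, hy2⟩ := exists_sq (mk_mem.1 hv) h0 h2
    apply not_square_conj h g (ι ⟨y, hy⟩)
    rw [h1, ← map_mul]
    congr 1
    exact Subtype.ext hy2

/-- the preimage in `Perm Pt` of a subgroup of `G` -/
def pre (_h : Hyp α ι) (M : Subgroup G) : Subgroup (Equiv.Perm Pt) := (M.comap ι).map X.subtype

theorem mem_pre {M : Subgroup G} {x : Equiv.Perm Pt} : x ∈ pre h M ↔ ∃ hx : x ∈ X, ι ⟨x, hx⟩ ∈ M := by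
  constructor
  · rintro ⟨y, hy, rfl⟩
    exact ⟨y.2, hy⟩
  · rintro ⟨hx, h1⟩
    exact ⟨⟨x, hx⟩, h1, rfl⟩

theorem pre_le (M : Subgroup G) : pre h M ≤ X := by
  rintro _ ⟨y, hy, rfl⟩
  exact y.2

theorem pre_conj {M : Subgroup G} (hM : M.Normal) : ∀ x ∈ X, ∀ k ∈ pre h M, x * k * x⁻¹ ∈ pre h M := by
  rintro x hx k hk
  rw [mem_pre h] at hk ⊢
  obtain ⟨hk1, hk2⟩ := hk
  refine ⟨X.mul_mem (X.mul_mem hx hk1) (X.inv_mem hx), ?_⟩
  have h1 := hM.conj_mem _ hk2 (ι ⟨x, hx⟩)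
  rw [← map_inv, ← map_mul, ← map_mul] at h1
  exact h1

/-- `V` as a subgroup of `G` -/
def VG (_h : Hyp α ι) : Subgroup G where
  carrier := {g | ∃ v, ∃ hv : mk v 1 ∈ X, g = ι ⟨mk v 1, hv⟩}
  mul_mem' := by
    rintro _ _ ⟨v, hv, rfl⟩ ⟨w, hw, rfl⟩
    refine ⟨v + w, ?_, ?_⟩
    · rw [← mk_one_mul]; exact X.mul_mem hv hw
    · rw [← map_mul]
      congr 1
      exact Subtype.ext (mk_one_mul v w)
  one_mem' := ⟨0, by rw [mk_one]; exact X.one_mem, by
    rw [← map_one ι]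
    congr 1
    exact Subtype.ext mk_one.symm⟩
  inv_mem' := by
    rintro _ ⟨v, hv, rfl⟩
    refine ⟨v, hv, ?_⟩
    rw [← map_inv]
    congr 1
    exact Subtype.ext (mk_inv_one v)

theorem VG_two : IsPGroup 2 (VG h) := by
  rintro ⟨g, v, hv, rfl⟩
  refine ⟨1, ?_⟩
  apply Subtype.ext
  show (ι ⟨mk v 1, hv⟩) ^ (2 ^ 1) = 1
  rw [pow_one, pow_two, ← map_mul, ← map_one ι]
  congr 1
  apply Subtype.ext
  show mk v 1 * mk v 1 = 1
  rw [mk_one_mul, add_self, mk_one]

theorem VG_comm {x y : G} (hx : x ∈ VG h) (hy : y ∈ VG h) : x * y = y * x := by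
  obtain ⟨v, hv, rfl⟩ := hx
  obtain ⟨w, hw, rfl⟩ := hy
  rw [← map_mul, ← map_mul]
  congr 1
  apply Subtype.ext
  show mk v 1 * mk w 1 = mk w 1 * mk v 1
  rw [mk_one_mul, mk_one_mul, add_comm]

theorem VG_normal {c g : G} (hc : c * α = α * c) (hg : g ∈ VG h) : c * g * c⁻¹ ∈ VG h := by
  obtain ⟨x, rfl⟩ := exists_pre h hc
  obtain ⟨v, hv, rfl⟩ := hg
  obtain ⟨w, σ, hx, hw⟩ := mem_X.1 x.2
  have h1 : mk w σ * mk v 1 * (mk w σ)⁻¹ = mk (v ∘ ⇑σ.symm) 1 := by
    rw [mul_inv_eq_iff_eq_mul, mk_mul, mk_mul, mul_one, one_mul, add_comm]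
    rfl
  have h2 : mk (v ∘ ⇑σ.symm) 1 ∈ X := by
    rw [← h1, ← hx]
    exact X.mul_mem (X.mul_mem x.2 hv) (X.inv_mem x.2)
  refine ⟨v ∘ ⇑σ.symm, h2, ?_⟩
  rw [← map_inv, ← map_mul, ← map_mul]
  congr 1
  apply Subtype.ext
  show (x : Equiv.Perm Pt) * mk v 1 * (x : Equiv.Perm Pt)⁻¹ = mk (v ∘ ⇑σ.symm) 1
  rw [hx, h1]

theorem VG_cent {g : G} (hg : g * α = α * g) (hg2 : ∀ x ∈ VG h, g * x = x * g) : g ∈ VG h := by
  obtain ⟨x, rfl⟩ := exists_pre h hg
  obtain ⟨v, hv, hv2⟩ := cent x.2 (fun v hv => by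
    have hv' : mk v 1 ∈ X := mk_mem.2 hv
    have h1 := hg2 _ ⟨v, hv', rfl⟩
    rw [← map_mul, ← map_mul] at h1
    exact congrArg Subtype.val (h.inj h1))
  refine ⟨v, mk_mem.2 hv2, ?_⟩
  congr 1
  exact Subtype.ext hv

theorem eq_of_VG {g : G} (hg : g * α * g⁻¹ ∈ VG h) : g * α * g⁻¹ = α := by
  obtain ⟨v, hv, h1⟩ := hg
  exact eq_of_V h g hv h1

variable [Finite G] (S : Sylow 2 G) (hS : ∀ s ∈ (S : Subgroup G), s * α = α * s) (hαS : α ∈ (S : Subgroup G))
include hS hαS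

omit hαS in
theorem VG_le : VG h ≤ (S : Subgroup G) := by
  have h1 : IsPGroup 2 ((S : Subgroup G) ⊔ VG h : Subgroup G) := by
    refine S.2.to_sup_of_normal_right' (VG_two h) ?_
    intro s hs
    rw [Subgroup.mem_normalizer_iff]
    intro z
    constructor
    · intro hz; exact VG_normal h (hS s hs) hz
    · intro hz
      have h2 := VG_normal h (hS s⁻¹ (S.inv_mem hs)) hz
      simpa [mul_assoc] using h2
  have h2 := S.3 h1 le_sup_left
  rw [← h2]
  exact le_sup_right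

/-- `N_G(S)` centralises `α` -/
theorem normalizer_le {n : G} (hn : n ∈ Subgroup.normalizer ((S : Subgroup G) : Set G)) : n * α = α * n := by
  have h1 : ∀ s ∈ (S : Subgroup G), (n * α * n⁻¹) * s = s * (n * α * n⁻¹) := by
    intro s hs
    have h2 : n⁻¹ * s * n ∈ (S : Subgroup G) := by
      have := (Subgroup.mem_normalizer_iff.1 (Subgroup.inv_mem _ hn) s).1 hs
      simpa using this
    have h3 := hS _ h2
    calc n * α * n⁻¹ * s = n * (α * (n⁻¹ * s * n)) * n⁻¹ := by simp only [mul_assoc, _root_.mul_assoc, _root_.mul_inv_cancel, _root_.mul_one]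
      _ = n * ((n⁻¹ * s * n) * α) * n⁻¹ := by rw [h3]
      _ = _ := by simp only [mul_assoc, _root_.mul_assoc, _root_.mul_inv_cancel_left]
  have h2 : n * α * n⁻¹ ∈ VG h :=
    VG_cent h (h1 α hαS) (fun x hx => h1 x (VG_le h S hS hx))
  exact mul_inv_eq_iff_eq_mul.1 (eq_of_VG h h2)

/-- A nontrivial normal subgroup contains `α`, if `O(G) = 1`. -/
theorem mem_of_normal (hO : Cfsg.pPrimeCore 2 G = ⊥) {M : Subgroup G} (hM : M.Normal) (hne : M ≠ ⊥) : α ∈ M := by
  have hMS : M ⊓ (S : Subgroup G) ≠ ⊥ := by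
    intro h1
    apply hne
    have h2 := TwoFusion.TransferIndex.not_dvd_relIndex_inf S M
    rw [h1, Subgroup.relIndex_bot_left] at h2
    have h3 : M ≤ Cfsg.pPrimeCore 2 G := le_pPrimeCore hM (by
      rw [Nat.coprime_comm]
      exact (Nat.Prime.coprime_iff_not_dvd Nat.prime_two).2 h2)
    rw [hO] at h3
    exact le_bot_iff.1 h3
  obtain ⟨⟨m, hm⟩, hm1⟩ := (Subgroup.ne_bot_iff_exists_ne_one).1 hMS
  have hm' := Subgroup.mem_inf.1 hm
  obtain ⟨x, hx⟩ := exists_pre h (hS m hm'.2)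
  have hK : pre h M ≠ ⊥ := by
    intro h1
    have h2 : (x : Equiv.Perm Pt) ∈ pre h M := (mem_pre h).2 ⟨x.2, by
      have : ι ⟨(x : Equiv.Perm Pt), x.2⟩ = m := hx
      rw [this]; exact hm'.1⟩
    rw [h1, Subgroup.mem_bot] at h2
    apply hm1
    apply Subtype.ext
    show m = 1
    have h3 : x = 1 := Subtype.ext h2
    rw [← hx, h3, map_one]
  have h1 := a_mem_normal (pre_le h M) (pre_conj h hM) hK
  obtain ⟨h2, h3⟩ := (mem_pre h).1 h1
  rw [map_a h] at h3
  exact h3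

/-- **Simplicity**: if `O(G) = 1` and `α` is not isolated, every nontrivial normal subgroup is `G`. -/
theorem eq_top (hO : Cfsg.pPrimeCore 2 G = ⊥) {g₀ : G} (hg₀ : g₀ * α * g₀⁻¹ ∈ (S : Subgroup G))
    (hg₁ : g₀ * α * g₀⁻¹ ≠ α) {M : Subgroup G} (hM : M.Normal) (hne : M ≠ ⊥) : M = ⊤ := by
  have hαM := mem_of_normal h S hS hαS hO hM hne
  rcases normal_cases (pre_le h M) (pre_conj h hM) with hK | hK
  · -- `M ∩ C ≤ V`
    exfalso
    have hMC : ∀ m ∈ M, m * α = α * m → m ∈ VG h := by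
      intro m hm hmα
      obtain ⟨x, hx⟩ := exists_pre h hmα
      obtain ⟨v, hv⟩ := hK x ((mem_pre h).2 ⟨x.2, by
        have : ι ⟨(x : Equiv.Perm Pt), x.2⟩ = m := hx
        rw [this]; exact hm⟩)
      refine ⟨v, by rw [← hv]; exact x.2, ?_⟩
      rw [← hx]
      congr 1
      exact Subtype.ext hv
    -- the Sylow subgroup `T = M ∩ S` of `M`
    have hidx := TwoFusion.TransferIndex.not_dvd_relIndex_inf S M
    have hTp : IsPGroup 2 ((M ⊓ (S : Subgroup G)).subgroupOf M) := by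
      have h1 : IsPGroup 2 (M ⊓ (S : Subgroup G) : Subgroup G) := S.2.to_le inf_le_right
      exact h1.of_equiv (Subgroup.subgroupOfEquivOfLe inf_le_left).symm
    let T : Sylow 2 M := hTp.toSylow hidx
    have hTmem : ∀ m : M, m ∈ (T : Subgroup M) ↔ (m : G) ∈ (S : Subgroup G) := by
      intro m
      show m ∈ (M ⊓ (S : Subgroup G)).subgroupOf M ↔ _
      rw [Subgroup.mem_subgroupOf, Subgroup.mem_inf]
      exact ⟨fun h => h.2, fun h => ⟨m.2, h⟩⟩
    have hTV : ∀ m : M, m ∈ (T : Subgroup M) → (m : G) ∈ VG h := by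
      intro m hm
      exact hMC m m.2 (hS m ((hTmem m).1 hm))
    have hTN : Subgroup.normalizer ((T : Subgroup M) : Set M) ≤ Subgroup.centralizer ((T : Subgroup M) : Set M) := by
      intro n hn
      have h1 : (⟨α, hαM⟩ : M) ∈ (T : Subgroup M) := (hTmem _).2 hαS
      have h2 : n * ⟨α, hαM⟩ * n⁻¹ ∈ (T : Subgroup M) := (Subgroup.mem_normalizer_iff.1 hn _).1 h1
      have h3 : (n : G) * α * (n : G)⁻¹ ∈ VG h := hTV _ h2
      have h4 : (n : G) * α = α * n := mul_inv_eq_iff_eq_mul.1 (eq_of_VG h h3)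
      have h5 : (n : G) ∈ VG h := hMC n n.2 h4
      rw [Subgroup.mem_centralizer_iff]
      intro t ht
      apply Subtype.ext
      exact VG_comm h (hTV t ht) h5
    have hcomp := MonoidHom.ker_transferSylow_isComplement' T hTN
    have hndvd := MonoidHom.not_dvd_card_ker_transferSylow T hTN
    set N := (MonoidHom.transferSylow T hTN).ker with hNdef
    have hN1 : N ≤ Cfsg.pPrimeCore 2 M := le_pPrimeCore (MonoidHom.normal_ker _) (by
      rw [Nat.coprime_comm]
      exact (Nat.Prime.coprime_iff_not_dvd Nat.prime_two).2 hndvd)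
    have hN2 : Cfsg.pPrimeCore 2 M = ⊥ := by
      have h1 := map_subtype_pPrimeCore 2 hM
      rw [hO, inf_bot_eq] at h1
      exact (Subgroup.map_eq_bot_iff_of_injective _ M.subtype_injective).1 h1
    have hN3 : N = ⊥ := le_bot_iff.1 (hN1.trans hN2.le)
    have hTtop : (T : Subgroup M) = ⊤ := by
      have h1 := hcomp.sup_eq_top
      rw [hN3, bot_sup_eq] at h1
      exact h1
    -- all conjugates of `α` are in `M = T ≤ V`
    apply hg₁
    apply eq_of_VG h
    have h1 : g₀ * α * g₀⁻¹ ∈ M := hM.conj_mem α hαM g₀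
    have h2 := hTV ⟨_, h1⟩ (by rw [hTtop]; exact Subgroup.mem_top _)
    exact h2
  · by_cases hodd : ∃ v σ, mk v σ ∈ pre h M ∧ Equiv.Perm.sign σ = -1
    · -- `C ≤ M`
      obtain ⟨v, σ, hvσ, hσ⟩ := hodd
      have hCM : ∀ c : G, c * α = α * c → c ∈ M := by
        intro c hc
        obtain ⟨x, rfl⟩ := exists_pre h hc
        obtain ⟨w, ρ, hx, hw⟩ := mem_X.1 x.2
        have h1 : (x : Equiv.Perm Pt) ∈ pre h M := by
          rcases Int.units_eq_one_or (Equiv.Perm.sign ρ) with h2 | h2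
          · rw [hx]; exact hK w ρ hw h2
          · have hvX : mk v σ ∈ X := pre_le h M hvσ
            have h3 : mk w ρ * mk v σ ∈ pre h M := by
              rw [mk_mul]
              apply hK
              · have h4 : mk w ρ * mk v σ ∈ X := X.mul_mem (mk_mem.2 hw) hvX
                rw [mk_mul] at h4
                exact mk_mem.1 h4
              · rw [Equiv.Perm.sign_mul, h2, hσ]; rfl
            have h4 : (x : Equiv.Perm Pt) = (mk w ρ * mk v σ) * (mk v σ)⁻¹ := by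
              rw [hx]; simp
            rw [h4]
            exact Subgroup.mul_mem _ h3 (Subgroup.inv_mem _ hvσ)
        obtain ⟨h2, h3⟩ := (mem_pre h).1 h1
        exact h3
      have hSM : (S : Subgroup G) ≤ M := fun s hs => hCM s (hS s hs)
      have h1 := Sylow.normalizer_sup_eq_top' (N := M) S hSM
      rw [eq_top_iff, ← h1]
      refine sup_le ?_ le_rfl
      intro n hn
      exact hCM n (normalizer_le h S hS hαS hn)
    · -- `M ∩ C = 2⁵A₆`
      exfalso
      push Not at hodd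
      have hMC : ∀ m ∈ M, m * α = α * m → m * m = 1 → (m ∈ VG h) ∨ (∃ y, y * y = m) ∨
          (∃ c : X, ι c * ι ⟨bb, bb_mem⟩ * (ι c)⁻¹ = m) := by
        intro m hm hmα hmm
        obtain ⟨x, rfl⟩ := exists_pre h hmα
        obtain ⟨w, ρ, hx, hw⟩ := mem_X.1 x.2
        have h1 : mk w ρ ∈ pre h M := (mem_pre h).2 ⟨by rw [← hx]; exact x.2, by
          have : (⟨mk w ρ, by rw [← hx]; exact x.2⟩ : X) = x := Subtype.ext hx.symm
          rw [this]; exact hm⟩
        have h2 : Equiv.Perm.sign ρ = 1 :=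
          (Int.units_eq_one_or _).resolve_right (hodd w ρ h1)
        have h3 : mk w ρ * mk w ρ = 1 := by
          rw [← hx]
          have h4 : x * x = 1 := h.inj (by rw [map_mul, hmm, map_one])
          exact congrArg Subtype.val h4
        rcases inv_cases hw h2 h3 with h4 | ⟨y, hy, hy2⟩ | ⟨c, hc, hc2⟩
        · left
          refine ⟨w, mk_mem.2 hw, ?_⟩
          congr 1
          exact Subtype.ext (by show (x : Equiv.Perm Pt) = mk w 1; rw [hx, h4])
        · right; left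
          refine ⟨ι ⟨y, hy⟩, ?_⟩
          rw [← map_mul]
          congr 1
          exact Subtype.ext (by show y * y = (x : Equiv.Perm Pt); rw [hy2, hx])
        · right; right
          refine ⟨⟨c, hc⟩, ?_⟩
          rw [← map_inv, ← map_mul, ← map_mul]
          congr 1
          exact Subtype.ext (by show c * bb * c⁻¹ = (x : Equiv.Perm Pt); rw [hc2, hx])
      have hsq : ∀ g : G, (g * α * g⁻¹) * (g * α * g⁻¹) = 1 := by
        intro g
        have : g * α * g⁻¹ * (g * α * g⁻¹) = g * (α * α) * g⁻¹ := by simp [mul_assoc]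
        rw [this, aa h]; simp
      -- conjugates of `α` in `C`
      have hD : ∀ g : G, (g * α * g⁻¹) * α = α * (g * α * g⁻¹) → g * α * g⁻¹ = α ∨
          ∃ c : X, ι c * ι ⟨bb, bb_mem⟩ * (ι c)⁻¹ = g * α * g⁻¹ := by
        intro g hg
        rcases hMC _ (hM.conj_mem α hαM g) hg (hsq g) with h1 | ⟨y, hy⟩ | h1
        · exact Or.inl (eq_of_VG h h1)
        · exact absurd hy (not_square_conj h g y)
        · exact Or.inr h1
      -- `b` is conjugate to `α`
      obtain ⟨k, hk⟩ : ∃ k, k * α * k⁻¹ = ι ⟨bb, bb_mem⟩ := by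
        rcases hD g₀ (hS _ hg₀) with h1 | ⟨c, hc⟩
        · exact absurd h1 hg₁
        · refine ⟨(ι c)⁻¹ * g₀, ?_⟩
          have : (ι c)⁻¹ * g₀ * α * ((ι c)⁻¹ * g₀)⁻¹ = (ι c)⁻¹ * (g₀ * α * g₀⁻¹) * ι c := by
            simp only [mul_assoc, _root_.mul_assoc, _root_.mul_inv_rev, _root_.inv_inv]
          rw [this, ← hc]
          simp [mul_assoc]
      -- products of commuting conjugates are not conjugates
      have hP : ∀ g l : G, (g * α * g⁻¹) * (l * α * l⁻¹) = (l * α * l⁻¹) * (g * α * g⁻¹) →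
          ∀ r : G, (g * α * g⁻¹) * (l * α * l⁻¹) ≠ r * α * r⁻¹ := by
        intro g l hgl r hr
        -- conjugate by `g⁻¹`
        have e1 : (g⁻¹ * l) * α * (g⁻¹ * l)⁻¹ = g⁻¹ * (l * α * l⁻¹) * g := by simp only [mul_assoc, _root_.mul_assoc, _root_.mul_inv_rev, _root_.inv_inv]
        have e2 : g⁻¹ * (g * α * g⁻¹) * g = α := by simp [mul_assoc]
        have c1 : ((g⁻¹ * l) * α * (g⁻¹ * l)⁻¹) * α = α * ((g⁻¹ * l) * α * (g⁻¹ * l)⁻¹) := by
          rw [e1]
          have := congrArg (fun z => g⁻¹ * z * g) hgl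
          simpa only [mul_assoc, _root_.inv_mul_cancel, _root_.mul_one, _root_.inv_mul_cancel_left] using this.symm
        have c2 : α * ((g⁻¹ * l) * α * (g⁻¹ * l)⁻¹) = (g⁻¹ * r) * α * (g⁻¹ * r)⁻¹ := by
          rw [e1]
          have := congrArg (fun z => g⁻¹ * z * g) hr
          simpa only [mul_assoc, _root_.mul_inv_rev, _root_.inv_inv, _root_.inv_mul_cancel_left] using this
        rcases hD _ c1 with h1 | ⟨c, hc⟩
        · rw [h1, aa h] at c2
          apply ne_one h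
          have := congrArg (fun z => (g⁻¹ * r)⁻¹ * z * (g⁻¹ * r)) c2
          simpa only [mul_assoc, _root_.mul_inv_rev, _root_.inv_inv, _root_.mul_inv_cancel_left, _root_.inv_mul_cancel_left, _root_.inv_mul_cancel, _root_.mul_one] using this.symm
        · obtain ⟨y, hy, hy2⟩ := ab_sq
          apply not_square_conj h (g⁻¹ * r) (ι c * ι ⟨y, hy⟩ * (ι c)⁻¹)
          rw [← c2, ← hc]
          have e3 : ι c * ι ⟨y, hy⟩ * (ι c)⁻¹ * (ι c * ι ⟨y, hy⟩ * (ι c)⁻¹) =
              ι c * (ι ⟨y, hy⟩ * ι ⟨y, hy⟩) * (ι c)⁻¹ := by simp [mul_assoc]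
          have e4 : ι ⟨y, hy⟩ * ι ⟨y, hy⟩ = α * ι ⟨bb, bb_mem⟩ := by
            rw [← map_mul, ← map_a h, ← map_mul]
            congr 1
            exact Subtype.ext hy2
          rw [e3, e4, ← mul_assoc, comm_range h c]
          simp [mul_assoc]
      obtain ⟨c, hc, d, hd, t1, t2⟩ := triple
      have e1 : (ι ⟨c, hc⟩ * k) * α * (ι ⟨c, hc⟩ * k)⁻¹ = ι ⟨c * bb * c⁻¹, X.mul_mem (X.mul_mem hc bb_mem) (X.inv_mem hc)⟩ := by
        have : (ι ⟨c, hc⟩ * k) * α * (ι ⟨c, hc⟩ * k)⁻¹ = ι ⟨c, hc⟩ * (k * α * k⁻¹) * (ι ⟨c, hc⟩)⁻¹ := by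
          simp only [mul_assoc, _root_.mul_assoc, _root_.mul_inv_rev]
        rw [this, hk, ← map_inv, ← map_mul, ← map_mul]
        rfl
      have e2 : (ι ⟨d, hd⟩ * k) * α * (ι ⟨d, hd⟩ * k)⁻¹ = ι ⟨d * bb * d⁻¹, X.mul_mem (X.mul_mem hd bb_mem) (X.inv_mem hd)⟩ := by
        have : (ι ⟨d, hd⟩ * k) * α * (ι ⟨d, hd⟩ * k)⁻¹ = ι ⟨d, hd⟩ * (k * α * k⁻¹) * (ι ⟨d, hd⟩)⁻¹ := by
          simp only [mul_assoc, _root_.mul_assoc, _root_.mul_inv_rev]
        rw [this, hk, ← map_inv, ← map_mul, ← map_mul]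
        rfl
      apply hP k (ι ⟨c, hc⟩ * k) _ (ι ⟨d, hd⟩ * k)
      · rw [e1, e2, hk, ← map_mul]
        congr 1
        exact Subtype.ext t2
      · rw [e1, hk, ← map_mul, ← map_mul]
        congr 1
        exact Subtype.ext t1

end

end Cfsg.Agent.H333.AltGrp
end

-- part: H333/AltQuot
section
/-!
# Reduction to the simple case for the `A₁₂`-involution centralizer
-/

set_option autoImplicit false

namespace Cfsg.Agent.H333.AltGrp

open Cfsg.Agent.H333.AltModel Cfsg.Agent.Lib.Cores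

variable {G : Type*} [Group G] [Finite G] {α : G} {ι : X →* G} (h : Hyp α ι)

theorem core_odd (G : Type*) [Group G] [Finite G] : Odd (Nat.card (Cfsg.pPrimeCore 2 G)) := by
  have h1 := pPrimeCore_coprime (G := G) 2
  exact Nat.coprime_two_right.1 h1

include h

/-- `α` is not in the core -/
theorem not_mem_core : α ∉ Cfsg.pPrimeCore 2 G := by
  intro h1
  have h2 : orderOf (⟨α, h1⟩ : Cfsg.pPrimeCore 2 G) ∣ Nat.card (Cfsg.pPrimeCore 2 G) := orderOf_dvd_natCard _
  rw [Subgroup.orderOf_mk, h.ord] at h2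
  have h3 := core_odd G
  rw [← Nat.not_even_iff_odd] at h3
  exact h3 (even_iff_two_dvd.2 h2)

/-- `O(G) ∩ C(α) = 1` -/
theorem core_inf {n : G} (hn : n ∈ Cfsg.pPrimeCore 2 G) (hc : n * α = α * n) : n = 1 := by
  have hN : (Cfsg.pPrimeCore 2 G).Normal := pPrimeCore_normal 2
  by_contra hne
  obtain ⟨x, hx⟩ := exists_pre h hc
  have hK : pre h (Cfsg.pPrimeCore 2 G) ≠ ⊥ := by
    intro h1
    have h2 : (x : Equiv.Perm Pt) ∈ pre h (Cfsg.pPrimeCore 2 G) := (mem_pre h).2 ⟨x.2, by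
      have : ι ⟨(x : Equiv.Perm Pt), x.2⟩ = n := hx
      rw [this]; exact hn⟩
    rw [h1, Subgroup.mem_bot] at h2
    apply hne
    have h3 : x = 1 := Subtype.ext h2
    rw [← hx, h3, map_one]
  have h1 := a_mem_normal (pre_le h _) (pre_conj h hN) hK
  obtain ⟨h2, h3⟩ := (mem_pre h).1 h1
  rw [map_a h] at h3
  exact not_mem_core h h3

theorem inv_eq : α⁻¹ = α := inv_eq_of_mul_eq_one_left (aa h)

/-- conjugation by `α` on the core -/
def conjCore (_h : Hyp α ι) : Cfsg.pPrimeCore 2 G →* Cfsg.pPrimeCore 2 G where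
  toFun n := ⟨α * n * α⁻¹, (pPrimeCore_normal 2).conj_mem _ n.2 α⟩
  map_one' := by
    apply Subtype.ext
    show α * 1 * α⁻¹ = 1
    simp
  map_mul' := by
    intro a b
    apply Subtype.ext
    show α * (a * b) * α⁻¹ = α * a * α⁻¹ * (α * b * α⁻¹)
    simp only [mul_assoc, _root_.mul_assoc, _root_.inv_mul_cancel_left]

theorem conjCore_fpf : MonoidHom.FixedPointFree (conjCore h) := by
  intro n hn
  apply Subtype.ext
  refine core_inf h n.2 ?_
  have h1 : α * n * α⁻¹ = n := congrArg Subtype.val hn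
  exact (mul_inv_eq_iff_eq_mul.1 h1).symm

theorem conjCore_invol : Function.Involutive (conjCore h) := by
  intro n
  apply Subtype.ext
  show α * (α * n * α⁻¹) * α⁻¹ = n
  rw [inv_eq h]
  have : α * (α * (n : G) * α) * α = (α * α) * n * (α * α) := by simp [mul_assoc]
  rw [this, aa h, one_mul, mul_one]

/-- `α` inverts the core -/
theorem core_inv {n : G} (hn : n ∈ Cfsg.pPrimeCore 2 G) : α * n * α⁻¹ = n⁻¹ := by
  have h1 := (conjCore_fpf h).coe_eq_inv_of_involutive (conjCore_invol h)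
  have h2 := congrFun h1 ⟨n, hn⟩
  exact congrArg Subtype.val h2

theorem core_comm {n m : G} (hn : n ∈ Cfsg.pPrimeCore 2 G) (hm : m ∈ Cfsg.pPrimeCore 2 G) :
    n * m = m * n := by
  have h1 := (conjCore_fpf h).commute_all_of_involutive (conjCore_invol h) ⟨n, hn⟩ ⟨m, hm⟩
  exact congrArg Subtype.val h1

/-- if `g` commutes with `α` modulo the core then `g ∈ O(G) C(α)` -/
theorem factor {g : G} (hg : g * α * g⁻¹ * α⁻¹ ∈ Cfsg.pPrimeCore 2 G) :
    ∃ m ∈ Cfsg.pPrimeCore 2 G, ∃ c : G, c * α = α * c ∧ g = m * c := by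
  have hN : (Cfsg.pPrimeCore 2 G).Normal := pPrimeCore_normal 2
  have hzz : (g * α * g⁻¹) * (g * α * g⁻¹) = 1 := by
    have : g * α * g⁻¹ * (g * α * g⁻¹) = g * (α * α) * g⁻¹ := by simp [mul_assoc]
    rw [this, aa h]; simp
  have hm : g * α * g⁻¹ * α ∈ Cfsg.pPrimeCore 2 G := by
    have := inv_eq h
    rwa [this] at hg
  have hodd : Odd (orderOf (g * α * g⁻¹ * α)) := by
    have h1 : orderOf (⟨_, hm⟩ : Cfsg.pPrimeCore 2 G) ∣ Nat.card (Cfsg.pPrimeCore 2 G) := orderOf_dvd_natCard _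
    rw [Subgroup.orderOf_mk] at h1
    exact Odd.of_dvd_nat (core_odd G) h1
  obtain ⟨k, hk⟩ := TwoFusion.IsolatedFusion.exists_zpow_conj_eq hzz (aa h) hodd
  set m := (g * α * g⁻¹ * α) ^ k with hmdef
  refine ⟨m, Subgroup.pow_mem _ hm k, m⁻¹ * g, ?_, by simp⟩
  have h1 : m * α = g * α * g⁻¹ * m := mul_inv_eq_iff_eq_mul.1 hk
  have h2 : α * m⁻¹ = m⁻¹ * (g * α * g⁻¹) := by
    rw [eq_inv_mul_iff_mul_eq, ← mul_assoc, h1]; simp
  calc m⁻¹ * g * α = m⁻¹ * (g * α * g⁻¹) * g := by simp only [mul_assoc, _root_.mul_assoc, _root_.inv_mul_cancel, _root_.mul_one]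
    _ = α * m⁻¹ * g := by rw [h2]
    _ = _ := by rw [mul_assoc]

/-- the isolated case -/
theorem sup_eq_top (hZ : ∀ g : G, α * g * α⁻¹ * g⁻¹ ∈ Cfsg.pPrimeCore 2 G) :
    Cfsg.pPrimeCore 2 G ⊔ Subgroup.centralizer ({α} : Set G) = ⊤ := by
  rw [eq_top_iff]
  intro g _
  obtain ⟨m, hm, c, hc, rfl⟩ := factor h (g := g) (by
    have h1 := (Cfsg.pPrimeCore 2 G).inv_mem (hZ g)
    have h2 : (α * g * α⁻¹ * g⁻¹)⁻¹ = g * α * g⁻¹ * α⁻¹ := by simp only [mul_assoc, _root_.mul_assoc, _root_.mul_inv_rev, _root_.inv_inv]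
    rwa [h2] at h1)
  exact Subgroup.mul_mem_sup hm (Subgroup.mem_centralizer_singleton_iff.2 hc)

variable (S : Sylow 2 G) (hS : ∀ s ∈ (S : Subgroup G), s * α = α * s) (hαS : α ∈ (S : Subgroup G))

omit h in
/-- a simple group from the absence of normal subgroups -/
theorem simple_of {H : Type*} [Group H] (hne : ∃ x : H, x ≠ 1) (h1 : ∀ M : Subgroup H, M.Normal → M ≠ ⊥ → M = ⊤) :
    IsSimpleGroup H := by
  obtain ⟨x, hx⟩ := hne
  refine { exists_pair_ne := ⟨x, 1, hx⟩, eq_bot_or_eq_top_of_normal := ?_ }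
  intro M hM
  by_cases h2 : M = ⊥
  · exact Or.inl h2
  · exact Or.inr (h1 M hM h2)

include hS hαS

/-- **In the non-isolated case the core is trivial.** -/
theorem core_eq_bot {g₀ : G} (hg₀ : g₀ * α * g₀⁻¹ ∈ (S : Subgroup G))
    (hg₁ : g₀ * α * g₀⁻¹ ≠ α) : Cfsg.pPrimeCore 2 G = ⊥ := by
  have hN : (Cfsg.pPrimeCore 2 G).Normal := pPrimeCore_normal 2
  set N := Cfsg.pPrimeCore 2 G with hNdef
  let π : G →* G ⧸ N := QuotientGroup.mk' N
  have hπ : Function.Surjective π := QuotientGroup.mk'_surjective N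
  have hker : ∀ g, π g = 1 ↔ g ∈ N := fun g => QuotientGroup.eq_one_iff g
  have h2 : Hyp (π α) (π.comp ι) := by
    refine ⟨?_, ?_, ?_⟩
    · have h3 : π α ≠ 1 := by
        rw [Ne, hker]
        exact not_mem_core h
      have h4 : π α ^ 2 = 1 := by
        rw [pow_two, ← map_mul, aa h, map_one]
      exact orderOf_eq_prime h4 h3
    · rw [injective_iff_map_eq_one]
      intro x hx
      have h3 : ι x ∈ N := (hker _).1 hx
      have h4 := core_inf h h3 (comm_range h x)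
      exact h.inj (by rw [h4, map_one])
    · ext y
      rw [Subgroup.mem_centralizer_singleton_iff]
      constructor
      · rintro ⟨x, rfl⟩
        show π (ι x) * π α = π α * π (ι x)
        rw [← map_mul, ← map_mul, comm_range h x]
      · intro hy
        obtain ⟨g, rfl⟩ := hπ y
        have h3 : g * α * g⁻¹ * α⁻¹ ∈ N := by
          rw [← hker, map_mul, map_mul, map_mul, map_inv, map_inv, hy]
          simp
        obtain ⟨m, hm, c, hc, rfl⟩ := factor h h3
        obtain ⟨x, hx⟩ := exists_pre h hc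
        refine ⟨x, ?_⟩
        show π (ι x) = π (m * c)
        rw [map_mul, (hker m).2 hm, one_mul, hx]
  have hmem2 : ∀ y ∈ ((S.mapSurjective hπ : Sylow 2 (G ⧸ N)) : Subgroup (G ⧸ N)), y * π α = π α * y := by
    rintro _ ⟨s, hs, rfl⟩
    rw [← map_mul, ← map_mul, hS s hs]
  have hg₂ : π g₀ * π α * (π g₀)⁻¹ ∈ ((S.mapSurjective hπ : Sylow 2 (G ⧸ N)) : Subgroup (G ⧸ N)) :=
    ⟨_, hg₀, by rw [map_mul, map_mul, map_inv]⟩
  have hg₃ : π g₀ * π α * (π g₀)⁻¹ ≠ π α := by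
    intro h3
    apply hg₁
    have h4 : g₀ * α * g₀⁻¹ * α⁻¹ ∈ N := by
      rw [← hker, map_mul, map_mul, map_mul, map_inv, map_inv, h3]
      simp
    have h5 : g₀ * α * g₀⁻¹ * α⁻¹ ∈ (S : Subgroup G) := S.mul_mem hg₀ (S.inv_mem hαS)
    have h6 : g₀ * α * g₀⁻¹ * α⁻¹ = 1 := by
      obtain ⟨k, hk⟩ := S.2 ⟨_, h5⟩
      have hk' : (g₀ * α * g₀⁻¹ * α⁻¹) ^ 2 ^ k = 1 := congrArg Subtype.val hk
      have h7 : orderOf (g₀ * α * g₀⁻¹ * α⁻¹) ∣ 2 ^ k := orderOf_dvd_of_pow_eq_one hk'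
      have h8 : orderOf (⟨_, h4⟩ : N) ∣ Nat.card N := orderOf_dvd_natCard _
      rw [Subgroup.orderOf_mk] at h8
      have h9 : Nat.Coprime (Nat.card N) (2 ^ k) := (pPrimeCore_coprime (G := G) 2).pow_right k
      exact orderOf_eq_one_iff.1 (Nat.eq_one_of_dvd_coprimes h9 h8 h7)
    exact mul_inv_eq_one.1 h6
  have hcore : Cfsg.pPrimeCore 2 (G ⧸ N) = ⊥ := pPrimeCore_quotient_pPrimeCore 2
  have hsimp : ∀ M : Subgroup (G ⧸ N), M.Normal → M ≠ ⊥ → M = ⊤ := fun M hM hne =>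
    eq_top h2 _ hmem2 ⟨α, hαS, rfl⟩ hcore hg₂ hg₃ hM hne
  -- the centralizer of the core
  let D : Subgroup G := Subgroup.centralizer (N : Set G)
  have hD : D.Normal := inferInstance
  by_cases hDN : D.map π = ⊥
  · exfalso
    have h3 : D ≤ N := by
      intro d hd
      rw [← hker]
      have : π d ∈ D.map π := ⟨d, hd, rfl⟩
      rwa [hDN, Subgroup.mem_bot] at this
    apply hg₃
    have h4 : g₀ * α * g₀⁻¹ * α⁻¹ ∈ D := by
      rw [Subgroup.mem_centralizer_iff]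
      intro n hn
      have hn' : n ∈ N := hn
      have h5 : g₀⁻¹ * (α⁻¹ * n * α) * g₀ ∈ N := by
        have h6 : α⁻¹ * n * α ∈ N := by
          have := hN.conj_mem n hn' α⁻¹
          rwa [inv_inv] at this
        have := hN.conj_mem _ h6 g₀⁻¹
        rwa [inv_inv] at this
      have h6 := core_inv h h5
      have h7 : α⁻¹ * n * α = n⁻¹ := by
        have := core_inv h hn'
        rw [inv_eq h] at this ⊢
        exact this
      rw [h7] at h6
      -- h6 : α * (g₀⁻¹ n⁻¹ g₀) * α⁻¹ = (g₀⁻¹ n⁻¹ g₀)⁻¹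
      have h8 : g₀ * (α * (g₀⁻¹ * n⁻¹ * g₀) * α⁻¹) * g₀⁻¹ = n := by
        rw [h6]; simp only [mul_assoc, _root_.mul_assoc, _root_.mul_inv_rev, _root_.inv_inv, _root_.mul_inv_cancel_left, _root_.mul_inv_cancel, _root_.mul_one]
      have h9 : g₀ * α * g₀⁻¹ * α⁻¹ * n * (g₀ * α * g₀⁻¹ * α⁻¹)⁻¹ = n := by
        have : g₀ * α * g₀⁻¹ * α⁻¹ * n * (g₀ * α * g₀⁻¹ * α⁻¹)⁻¹ =
            g₀ * (α * (g₀⁻¹ * (α⁻¹ * n * α) * g₀) * α⁻¹) * g₀⁻¹ := by simp only [mul_assoc, _root_.mul_assoc, _root_.mul_inv_rev, _root_.inv_inv]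
        rw [this, h7, h8]
      exact (mul_inv_eq_iff_eq_mul.1 h9).symm
    have h5 : π (g₀ * α * g₀⁻¹ * α⁻¹) = 1 := (hker _).2 (h3 h4)
    rw [map_mul, map_mul, map_mul, map_inv, map_inv] at h5
    exact mul_inv_eq_one.1 h5
  · have h3 := hsimp (D.map π) (hD.map π hπ) hDN
    have h4 : N ≤ D := by
      intro n hn
      rw [Subgroup.mem_centralizer_iff]
      intro m hm
      exact core_comm h hm hn
    have h5 : α ∈ D := by
      have h6 : π α ∈ D.map π := by rw [h3]; trivial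
      obtain ⟨d, hd, hd2⟩ := h6
      have h7 : d⁻¹ * α ∈ N := by
        rw [← hker, map_mul, map_inv, hd2, inv_mul_cancel]
      have h8 : α = d * (d⁻¹ * α) := by simp
      rw [h8]
      exact D.mul_mem hd (h4 h7)
    rw [eq_bot_iff]
    intro n hn
    rw [Subgroup.mem_bot]
    exact core_inf h hn ((Subgroup.mem_centralizer_iff.1 h5) n hn)

/-- **In the non-isolated case `G` is a non-abelian simple group.** -/
theorem simple {g₀ : G} (hg₀ : g₀ * α * g₀⁻¹ ∈ (S : Subgroup G)) (hg₁ : g₀ * α * g₀⁻¹ ≠ α) :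
    IsSimpleGroup G ∧ ¬ IsMulCommutative G := by
  refine ⟨simple_of ⟨α, ne_one h⟩ fun M hM hne =>
    eq_top h S hS hαS (core_eq_bot h S hS hαS hg₀ hg₁) hg₀ hg₁ hM hne, ?_⟩
  intro h1
  apply hg₁
  have h2 : g₀ * α = α * g₀ := h1.is_comm.comm _ _
  rw [h2]; simp

end Cfsg.Agent.H333.AltGrp
end

private theorem dce_04c19232a7e6 : _root_.True := by
  try have : _root_.True := by simp only [_root_.Cfsg.Agent.H333.AltModel.a.eq_1]
  try have : _root_.True := by simp only [_root_.Cfsg.Agent.H333.AltGrp.pre.congr_simp]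
  try have : _root_.True := by simp only [_root_.Cfsg.Agent.H333.AltGrp.VG.congr_simp]
  try have : _root_.True := by simp only [_root_.Cfsg.Agent.H333.AltModel.e.eq_1]
  exact _root_.True.intro
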