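import Cfsg.Agent.LieClassical.OrthFinite
import Cfsg.Agent.LieClassical.OrthCenter
import Cfsg.Agent.LieClassical.OmegaReindex
import Cfsg.Agent.Prune
set_option linter.all false
prune_inst 0x7f00000000000000000000000000000000000000000000000000000000000000000000000000000000000000000000000000000000000000000000000000000000000000000000000000000000000000003fffffffffffffffffffffffffffbeffbdffffffff
open scoped Cfsg.Agent.FastGrp

/-!
# Centralizers of involutions in `Ω₇(q)`, `q` odd: `q³` divides the order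
-/

set_option autoImplicit false

namespace Cfsg.Agent.H333.OmInv

open QuadraticMap Cfsg.Agent.LieClassical.OrthCore Cfsg.Agent.LieClassical.OrthTrans
  Cfsg.Agent.LieClassical.OrthSimple Cfsg.Agent.LieClassical.OrthFinite

section
variable {F V : Type*} [Field F] [AddCommGroup V] [Module F V] {Q : QuadraticForm F V}

/-- eigenspace -/
def eig (t : V ≃ₗ[F] V) (e : F) : Submodule F V where
  carrier := {v | t v = e • v}
  add_mem' := by
    intro a b ha hb
    show t (a + b) = e • (a + b)
    rw [map_add, smul_add]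
    exact congrArg₂ (· + ·) ha hb
  zero_mem' := by
    show t 0 = e • 0
    rw [map_zero, smul_zero]
  smul_mem' := by
    intro c x hx
    show t (c • x) = e • (c • x)
    rw [map_smul, show t x = e • x from hx, smul_comm]

theorem mem_eig {t : V ≃ₗ[F] V} {e : F} {v : V} : v ∈ eig t e ↔ t v = e • v := Iff.rfl

/-- a Siegel group in one eigenspace -/
structure Side (Q : QuadraticForm F V) (t : V ≃ₗ[F] V) (e : F) (W : Submodule F V) (u u' : V) : Prop where
  sing : Q u = 0
  mem : t u = e • u
  mem' : t u' = e • u'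
  memW : ∀ w ∈ W, t w = e • w
  perp : ∀ w ∈ W, polar Q u w = 0
  sep : ∀ w ∈ W, siegelLin Q u w u' = u' → w = 0

theorem exists_side [Finite F] [FiniteDimensional F V] (hQ : Nondeg Q) (h2 : (2 : F) ≠ 0)
    {t : V ≃ₗ[F] V} (ht : t ∈ O Q) (htt : ∀ v, t (t v) = v) {e : F} (he : e * e = 1) :
    ∃ W u u', Side Q t e W u u' ∧ Module.finrank F (eig t e) ≤ Module.finrank F W + 2 := by
  by_cases hd : Module.finrank F (eig t e) ≤ 2
  · refine ⟨⊥, 0, 0, ⟨by simp, by simp, by simp, ?_, ?_, ?_⟩, by omega⟩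
    · intro w hw
      rw [Submodule.mem_bot] at hw
      rw [hw]; simp
    · intro w hw
      simp
    · intro w hw _
      exact (Submodule.mem_bot F).1 hw
  · push Not at hd
    obtain ⟨u, hu, hu0, huQ⟩ := exists_sing_mem (Q := Q) (eig t e) (by omega)
    obtain ⟨y, hy⟩ := hQ.exists_polar_eq hu0 1
    have hut : polar Q u (t y) = e := by
      rw [← polar_map ht, htt, mem_eig.1 hu, polar_smul_left, hy, smul_eq_mul, mul_one]
    set u' : V := (2 : F)⁻¹ • (y + e • t y) with hu'
    have hu't : t u' = e • u' := by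
      have h3 : e • (y + e • t y) = t y + e • y := by
        rw [smul_add, smul_smul, he, one_smul, add_comm]
      rw [hu', map_smul, map_add, map_smul, htt, smul_comm e, h3]
    have huu' : polar Q u u' = 1 := by
      rw [hu', polar_smul_right, polar_add_right, polar_smul_right, hy, hut, smul_eq_mul, smul_eq_mul, he]
      field_simp
      norm_num
    let f : eig t e →ₗ[F] (Fin 2 → F) :=
      (LinearMap.pi ![polarBilin Q u, polarBilin Q u']).comp (eig t e).subtype
    have hf : ∀ x : eig t e, x ∈ LinearMap.ker f ↔ polar Q u x = 0 ∧ polar Q u' x = 0 := by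
      intro x
      rw [LinearMap.mem_ker, funext_iff, Fin.forall_fin_two]
      simp [f, LinearMap.pi_apply]
    refine ⟨(LinearMap.ker f).map (eig t e).subtype, u, u', ⟨huQ, hu, hu't, ?_, ?_, ?_⟩, ?_⟩
    · rintro _ ⟨x, hx, rfl⟩
      exact x.2
    · rintro _ ⟨x, hx, rfl⟩
      exact ((hf x).1 hx).1
    · rintro _ ⟨x, hx, rfl⟩ h1
      obtain ⟨h3, h4⟩ := (hf x).1 hx
      change siegelLin Q u (x : V) u' = u' at h1
      show (x : V) = 0
      rw [siegelLin_apply, huu', polar_comm Q (x : V) u', h4] at h1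
      have h5 : (x : V) = Q (x : V) • u := by
        have h6 : u' + (1 : F) • (x : V) - (0 : F) • u - (Q (x : V) * 1) • u - u' = 0 := by
          rw [h1, sub_self]
        rw [← sub_eq_zero, ← h6]
        module
      have h7 : Q (x : V) = 0 := by
        have h8 : polar Q u' (x : V) = Q (x : V) * polar Q u' u := by
          conv_lhs => rw [h5]
          rw [polar_smul_right, smul_eq_mul]
        rw [h4, polar_comm Q u' u, huu', mul_one] at h8
        exact h8.symm
      rw [h5, h7, zero_smul]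
    · have h1 := LinearMap.finrank_range_add_finrank_ker f
      have h2 : Module.finrank F (LinearMap.range f) ≤ 2 := by
        have := Submodule.finrank_le (LinearMap.range f)
        rwa [Module.finrank_fin_fun] at this
      have h3 : Module.finrank F ((LinearMap.ker f).map (eig t e).subtype) = Module.finrank F (LinearMap.ker f) :=
        Submodule.finrank_map_subtype_eq _ _
      omega

theorem polar_tv {t : V ≃ₗ[F] V} (ht : t ∈ O Q) (htt : ∀ v, t (t v) = v) {e : F} {x : V}
    (hx : t x = e • x) (v : V) : polar Q x (t v) = e * polar Q x v := by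
  rw [← polar_map ht, htt, hx, polar_smul_left, smul_eq_mul]

theorem siegelLin_comm {t : V ≃ₗ[F] V} (ht : t ∈ O Q) (htt : ∀ v, t (t v) = v) {e : F}
    {u w : V} (hu : t u = e • u) (hw : t w = e • w) (v : V) :
    siegelLin Q u w (t v) = t (siegelLin Q u w v) := by
  rw [siegelLin_apply, siegelLin_apply, polar_tv ht htt hu, polar_tv ht htt hw, map_sub, map_sub, map_add,
    map_smul, map_smul, map_smul, hu, hw]
  module

/-- eigenvectors for different eigenvalues are orthogonal -/
theorem orth {t : V ≃ₗ[F] V} (h2 : (2 : F) ≠ 0) (ht : t ∈ O Q) {x y : V} (hx : t x = (1 : F) • x)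
    (hy : t y = (-1 : F) • y) : polar Q x y = 0 := by
  have h1 := polar_map ht x y
  rw [hx, hy, polar_smul_left, polar_smul_right, smul_eq_mul, smul_eq_mul] at h1
  have h3 : (2 : F) * polar Q x y = 0 := by linear_combination -h1
  exact (mul_eq_zero.1 h3).resolve_left h2

/-- a Siegel transformation of one side fixes the vectors orthogonal to it -/
theorem siegelLin_fix {u w v : V} (h1 : polar Q u v = 0) (h2 : polar Q w v = 0) :
    siegelLin Q u w v = v := by
  rw [siegelLin_apply, h1, h2]
  simp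

/-- Siegel transformations of orthogonal planes commute -/
theorem siegelLin_swap {u w u' w' : V} (h1 : polar Q u u' = 0) (h2 : polar Q u w' = 0)
    (h3 : polar Q w u' = 0) (h4 : polar Q w w' = 0) (v : V) :
    siegelLin Q u w (siegelLin Q u' w' v) = siegelLin Q u' w' (siegelLin Q u w v) := by
  have h5 : siegelLin Q u w u' = u' := siegelLin_fix h1 h3
  have h6 : siegelLin Q u w w' = w' := siegelLin_fix h2 h4
  have h1' : polar Q u' u = 0 := by rw [polar_comm]; exact h1
  have h2' : polar Q w' u = 0 := by rw [polar_comm]; exact h2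
  have h3' : polar Q u' w = 0 := by rw [polar_comm]; exact h3
  have h4' : polar Q w' w = 0 := by rw [polar_comm]; exact h4
  conv_lhs => rw [siegelLin_apply u' w' v]
  rw [map_sub, map_sub, map_add, map_smul, map_smul, map_smul, h5, h6, siegelLin_apply u' w']
  have h7 : polar Q u' (siegelLin Q u w v) = polar Q u' v := by
    rw [siegelLin_apply, polar_sub_right, polar_sub_right, polar_add_right, polar_smul_right, polar_smul_right,
      polar_smul_right, h1', h3']
    simp
  have h8 : polar Q w' (siegelLin Q u w v) = polar Q w' v := by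
    rw [siegelLin_apply, polar_sub_right, polar_sub_right, polar_add_right, polar_smul_right, polar_smul_right,
      polar_smul_right, h2', h4']
    simp
  rw [h7, h8]

/-- the product of the two Siegel groups acts on the centraliser side -/
theorem dvd_card_of_sides [Finite F] [FiniteDimensional F V] (h2 : (2 : F) ≠ 0)
    {t : V ≃ₗ[F] V} (ht : t ∈ O Q) (htt : ∀ v, t (t v) = v) {W W' : Submodule F V} {u₁ u₁' u₂ u₂' : V}
    (h : Side Q t 1 W u₁ u₁') (h' : Side Q t (-1) W' u₂ u₂') :
    Nat.card F ^ (Module.finrank F W + Module.finrank F W') ∣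
      Nat.card (E Q ⊓ Subgroup.centralizer {t} : Subgroup (V ≃ₗ[F] V)) := by
  classical
  have hmem : ∀ x : W × W', siegel Q u₁ (x.1 : V) h.sing (h.perp _ x.1.2) *
      siegel Q u₂ (x.2 : V) h'.sing (h'.perp _ x.2.2) ∈ (E Q ⊓ Subgroup.centralizer {t} : Subgroup (V ≃ₗ[F] V)) := by
    intro x
    refine Subgroup.mem_inf.2 ⟨mul_mem (siegel_mem_E _ _) (siegel_mem_E _ _), ?_⟩
    rw [Subgroup.mem_centralizer_singleton_iff]
    apply LinearEquiv.ext
    intro v
    show siegelLin Q u₁ x.1 (siegelLin Q u₂ x.2 (t v)) = t (siegelLin Q u₁ x.1 (siegelLin Q u₂ x.2 v))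
    rw [siegelLin_comm ht htt h'.mem (h'.memW _ x.2.2), siegelLin_comm ht htt h.mem (h.memW _ x.1.2)]
  let f : Multiplicative (W × W') →* (E Q ⊓ Subgroup.centralizer {t} : Subgroup (V ≃ₗ[F] V)) :=
    MonoidHom.mk' (fun x => ⟨_, hmem (Multiplicative.toAdd x)⟩) (by
      intro x y
      apply Subtype.ext
      apply LinearEquiv.ext
      intro v
      obtain ⟨⟨x1, hx1⟩, ⟨x2, hx2⟩⟩ := x
      obtain ⟨⟨y1, hy1⟩, ⟨y2, hy2⟩⟩ := y
      show siegelLin Q u₁ (x1 + y1) (siegelLin Q u₂ (x2 + y2) v) =
        siegelLin Q u₁ x1 (siegelLin Q u₂ x2 (siegelLin Q u₁ y1 (siegelLin Q u₂ y2 v)))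
      rw [siegelLin_swap (u := u₂) (w := x2) (u' := u₁) (w' := y1)
        (by rw [polar_comm]; exact orth h2 ht h.mem h'.mem)
        (by rw [polar_comm]; exact orth h2 ht (h.memW _ hy1) h'.mem)
        (by rw [polar_comm]; exact orth h2 ht h.mem (h'.memW _ hx2))
        (by rw [polar_comm]; exact orth h2 ht (h.memW _ hy1) (h'.memW _ hx2)),
        siegelLin_comp h.sing (h.perp _ hx1) (h.perp _ hy1),
        siegelLin_comp h'.sing (h'.perp _ hx2) (h'.perp _ hy2)])
  have hf : Function.Injective f := by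
    rw [injective_iff_map_eq_one]
    intro x hx
    obtain ⟨⟨x1, hx1⟩, ⟨x2, hx2⟩⟩ := x
    have h3 : ∀ v, siegelLin Q u₁ x1 (siegelLin Q u₂ x2 v) = v := fun v =>
      LinearEquiv.congr_fun (congrArg Subtype.val hx) v
    have h4 : siegelLin Q u₁ x1 u₁' = u₁' := by
      have h5 := h3 u₁'
      rwa [siegelLin_fix (u := u₂) (w := x2) (by rw [polar_comm]; exact orth h2 ht h.mem' h'.mem)
        (by rw [polar_comm]; exact orth h2 ht h.mem' (h'.memW _ hx2))] at h5
    have h5 := h.sep x1 hx1 h4
    have h6 : siegelLin Q u₂ x2 u₂' = u₂' := by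
      have h7 := h3 u₂'
      rw [h5] at h7
      rw [siegelLin_apply] at h7
      simpa using h7
    have h7 := h'.sep x2 hx2 h6
    subst h5 h7
    rfl
  have h8 := Subgroup.card_dvd_of_injective f hf
  have h9 : Nat.card (Multiplicative (W × W')) = Nat.card F ^ (Module.finrank F W + Module.finrank F W') := by
    rw [Nat.card_congr (Multiplicative.toAdd), Nat.card_prod, Module.natCard_eq_pow_finrank (K := F) (V := W),
      Module.natCard_eq_pow_finrank (K := F) (V := W'), pow_add]
  rwa [h9] at h8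

theorem dvd_card [Finite F] [FiniteDimensional F V] (hQ : Nondeg Q) (h2 : (2 : F) ≠ 0)
    (hd : Module.finrank F V = 7) {t : V ≃ₗ[F] V} (ht : t ∈ O Q) (htt : ∀ v, t (t v) = v) :
    Nat.card F ^ 3 ∣ Nat.card (E Q ⊓ Subgroup.centralizer {t} : Subgroup (V ≃ₗ[F] V)) := by
  obtain ⟨W, u₁, u₁', h, hW⟩ := exists_side hQ h2 ht htt (e := 1) (by norm_num)
  obtain ⟨W', u₂, u₂', h', hW'⟩ := exists_side hQ h2 ht htt (e := -1) (by norm_num)
  have h1 : eig t 1 ⊔ eig t (-1) = ⊤ := by
    rw [eq_top_iff]
    intro v _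
    rw [Submodule.mem_sup]
    refine ⟨(2 : F)⁻¹ • (v + t v), ?_, (2 : F)⁻¹ • (v - t v), ?_, ?_⟩
    · rw [mem_eig, map_smul, map_add, htt, one_smul, add_comm]
    · rw [mem_eig, map_smul, map_sub, htt, smul_comm]
      congr 1
      module
    · rw [← smul_add]
      have : v + t v + (v - t v) = (2 : F) • v := by module
      rw [this, smul_smul, inv_mul_cancel₀ h2, one_smul]
  have h3 : 7 ≤ Module.finrank F (eig t 1) + Module.finrank F (eig t (-1)) := by
    have h4 := Submodule.finrank_add_le_finrank_add_finrank (eig t 1) (eig t (-1))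
    rw [h1, finrank_top, hd] at h4
    exact h4
  exact (pow_dvd_pow _ (by omega)).trans (dvd_card_of_sides h2 ht htt h h')

end

/-- the center of `Ω₇(q)` is trivial -/
theorem center_omega_seven {F : Type} [Field F] (h2 : (2 : F) ≠ 0) :
    Subgroup.center (Cfsg.Omega F (Cfsg.quadFormOdd 3 F)) = ⊥ := by
  have h3 := Cfsg.Agent.LieClassical.OrthCenter.center_omega_eq_bot_of_odd h2
    (LieClassical.OmegaReindex.quadOdd_nondegenerate (F := F) (m := 3) h2) (by decide) (by decide)
    ⟨Pi.single (.inr (.inl 0)) 1, by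
      intro h
      have := congrFun h (.inr (.inl 0))
      rw [Pi.single_eq_same] at this
      exact one_ne_zero this, by
      rw [LieClassical.OmegaReindex.coe_quadOdd]
      unfold Cfsg.quadFormOdd
      rw [Fin.sum_univ_three]
      simp⟩
  rwa [LieClassical.OmegaReindex.coe_quadOdd] at h3

/-- **The centralizer of an involution of `PΩ₇(q)`, `q` odd, has order divisible by `q³`.** -/
theorem omega_seven_dvd {F : Type} [Field F] [Fintype F] (h2 : (2 : F) ≠ 0) {G : Type*} [Group G]
    (e : G ≃* Cfsg.POmega F (Cfsg.quadFormOdd 3 F)) {α : G} (hα : α * α = 1) :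
    Nat.card F ^ 3 ∣ Nat.card (Subgroup.centralizer ({α} : Set G)) := by
  classical
  let Q := LieClassical.OmegaReindex.quadOdd 3 F
  have hQc : ⇑Q = Cfsg.quadFormOdd 3 F := LieClassical.OmegaReindex.coe_quadOdd 3 F
  have hQ : Nondeg Q := nondeg_of_nondegenerate (LieClassical.OmegaReindex.quadOdd_nondegenerate h2)
  have hd : Module.finrank F (Unit ⊕ (Fin 3 ⊕ Fin 3) → F) = 7 := by
    rw [Module.finrank_fintype_fun_eq_card]
    rfl
  have hG : Good Q := good_of_finite hQ (by rw [hd]; norm_num)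
  have hcen := center_omega_seven h2
  rw [← hQc] at e hcen
  let e1 : Cfsg.POmega F ⇑Q ≃* Cfsg.Omega F ⇑Q :=
    (QuotientGroup.quotientMulEquivOfEq hcen).trans QuotientGroup.quotientBot
  let e2 : G ≃* E Q := ((e.trans e1).trans (omegaEquiv Q)).trans (MulEquiv.subgroupCongr hG.commutator_eq_E)
  let f : G →* ((Unit ⊕ (Fin 3 ⊕ Fin 3) → F) ≃ₗ[F] (Unit ⊕ (Fin 3 ⊕ Fin 3) → F)) :=
    (E Q).subtype.comp e2.toMonoidHom
  have hf : Function.Injective f := (Subgroup.subtype_injective _).comp e2.injective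
  have hfE : ∀ g, f g ∈ E Q := fun g => (e2 g).2
  have h1 : (Subgroup.centralizer ({α} : Set G)).map f = E Q ⊓ Subgroup.centralizer {f α} := by
    ext x
    constructor
    · rintro ⟨g, hg, rfl⟩
      refine Subgroup.mem_inf.2 ⟨hfE g, ?_⟩
      rw [Subgroup.mem_centralizer_singleton_iff, ← map_mul, ← map_mul]
      congr 1
      exact Subgroup.mem_centralizer_singleton_iff.1 hg
    · intro hx
      obtain ⟨hx1, hx2⟩ := Subgroup.mem_inf.1 hx
      refine ⟨e2.symm ⟨x, hx1⟩, ?_, ?_⟩
      · show _ ∈ Subgroup.centralizer ({α} : Set G)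
        rw [Subgroup.mem_centralizer_singleton_iff]
        apply hf
        have h3 : f (e2.symm ⟨x, hx1⟩) = x := by
          show ((e2 (e2.symm ⟨x, hx1⟩) : E Q) : (Unit ⊕ (Fin 3 ⊕ Fin 3) → F) ≃ₗ[F] _) = x
          rw [MulEquiv.apply_symm_apply]
        rw [map_mul, map_mul, h3]
        exact Subgroup.mem_centralizer_singleton_iff.1 hx2
      · show ((e2 (e2.symm ⟨x, hx1⟩) : E Q) : (Unit ⊕ (Fin 3 ⊕ Fin 3) → F) ≃ₗ[F] _) = x
        rw [MulEquiv.apply_symm_apply]
  have h3 := dvd_card hQ h2 hd (t := f α) (E_le_O (hfE α)) (by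
    intro v
    have h4 : f α * f α = 1 := by rw [← map_mul, hα, map_one]
    exact LinearEquiv.congr_fun h4 v)
  rw [← h1, Nat.card_congr ((Subgroup.centralizer ({α} : Set G)).equivMapOfInjective f hf).symm.toEquiv] at h3
  exact h3

/-- a centralizer of order `23040` does not occur in `PΩ₇(q)` -/
theorem not_omega_seven {F : Type} [Field F] [Fintype F] (hF : Fintype.card F % 8 = 3 ∨ Fintype.card F % 8 = 5)
    {G : Type*} [Group G] (e : G ≃* Cfsg.POmega F (Cfsg.quadFormOdd 3 F)) {α : G} (hα : α * α = 1)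
    (hc : Nat.card (Subgroup.centralizer ({α} : Set G)) = 23040) : False := by
  obtain ⟨p, hpc⟩ := CharP.exists F
  obtain ⟨n, hp, hn⟩ := FiniteField.card F p
  have hp2 : p ≠ 2 := by
    rintro rfl
    have : (2 : ℕ) ∣ Fintype.card F := by
      rw [hn]; exact dvd_pow_self 2 n.2.ne'
    omega
  have h2 : (2 : F) ≠ 0 := by
    intro h
    have h3 : ((2 : ℕ) : F) = 0 := by exact_mod_cast h
    have h4 := (CharP.cast_eq_zero_iff F p 2).1 h3
    exact hp2 ((Nat.prime_dvd_prime_iff_eq hp Nat.prime_two).1 h4)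
  have h3 := omega_seven_dvd h2 e hα
  rw [hc, Nat.card_eq_fintype_card, hn] at h3
  have h4 : p ^ 3 ∣ 23040 :=
    (pow_dvd_pow_of_dvd (dvd_pow_self p n.2.ne') 3).trans h3
  have h5 : p ∣ 23040 := (dvd_pow_self p (by norm_num)).trans h4
  have h6 : 23040 = 2 ^ 9 * (3 ^ 2 * 5) := by norm_num
  rw [h6] at h5
  have h7 : p = 3 ∨ p = 5 := by
    rcases (Nat.Prime.dvd_mul hp).1 h5 with h | h
    · exact absurd ((Nat.prime_dvd_prime_iff_eq hp Nat.prime_two).1 (hp.dvd_of_dvd_pow h)) hp2
    · rcases (Nat.Prime.dvd_mul hp).1 h with h | h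
      · exact Or.inl ((Nat.prime_dvd_prime_iff_eq hp Nat.prime_three).1 (hp.dvd_of_dvd_pow h))
      · exact Or.inr ((Nat.prime_dvd_prime_iff_eq hp Nat.prime_five).1 h)
  rcases h7 with rfl | rfl <;> norm_num at h4

end Cfsg.Agent.H333.OmInv
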